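import Mathlib
import Cfsg.Agent.Base

/-! Involutions that are products of squares in their centralisers. -/

set_option autoImplicit false

namespace H23.CZ

open Subgroup

variable {G Y : Type*} [Group G] [Group Y]

/-- The subgroup generated by the squares of the elements commuting with `u`. -/
def Sq (u : Y) : Subgroup Y := closure {y | ∃ x, Commute x u ∧ y = x ^ 2}

/-- Every involution centralising a suitable `2`-subgroup is a product of squares of elements
commuting with it. -/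
def Good (Y : Type*) [Group Y] : Prop :=
  ∃ R : Subgroup Y, IsPGroup 2 R ∧ ∀ u : Y, u ^ 2 = 1 → (∀ r ∈ R, Commute r u) → u ∈ Sq u

theorem sq_mem {u x : Y} (h : Commute x u) : x ^ 2 ∈ Sq u := subset_closure ⟨x, h, rfl⟩

theorem mul_self_mem {u x : Y} (h : Commute x u) : x * x ∈ Sq u := sq x ▸ sq_mem h

theorem sq_map (π : G →* Y) {u g : G} (h : g ∈ Sq u) : π g ∈ Sq (π u) := by
  have : Sq u ≤ (Sq (π u)).comap π := (closure_le _).2 (by
    rintro _ ⟨x, hx, rfl⟩
    change π (x ^ 2) ∈ Sq (π u)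
    rw [map_pow]
    exact sq_mem (hx.map π))
  exact this h

/-- Criterion for a quotient. -/
theorem good_of_cov (π : G →* Y) (hs : Function.Surjective π) (R : Subgroup G) (hR : IsPGroup 2 R)
    (h : ∀ u : G, π (u ^ 2) = 1 → (∀ r ∈ R, π (r * u * r⁻¹ * u⁻¹) = 1) →
      ∃ v ∈ Sq u, π v = π u) : Good Y := by
  refine ⟨R.map π, hR.map π, fun u hu hc => ?_⟩
  obtain ⟨u, rfl⟩ := hs u
  obtain ⟨v, hv, e⟩ := h u (by rw [map_pow, hu]) fun r hr => by
    have := hc _ (mem_map_of_mem π hr)
    simp only [map_mul, map_inv, this.eq, mul_inv_cancel_right, mul_inv_cancel]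
  have := sq_map π hv
  rwa [e] at this

theorem Good.congr (h : Good G) (e : G ≃* Y) : Good Y := by
  obtain ⟨R, hR, h⟩ := h
  refine good_of_cov (e : G →* Y) e.surjective R hR fun u hu hc => ⟨u, h u ?_ fun r hr => ?_, rfl⟩
  · exact e.map_eq_one_iff.1 hu
  · have := e.map_eq_one_iff.1 (hc r hr)
    rw [mul_inv_eq_one, mul_inv_eq_iff_eq_mul] at this
    exact this

theorem good_of_all (h : ∀ u : Y, u ^ 2 = 1 → u ∈ Sq u) : Good Y :=
  ⟨⊥, .of_bot, fun u hu _ => h u hu⟩

theorem sq_conj {u : Y} (g : Y) (h : u ∈ Sq u) : g * u * g⁻¹ ∈ Sq (g * u * g⁻¹) :=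
  sq_map (MulAut.conj g : Y →* Y) h

/-- In a good group a `2`-central involution is a product of squares in its centraliser. -/
theorem Good.mem [Finite Y] (h : Good Y) {u : Y} (hu : u ^ 2 = 1)
    (hc : ¬ 2 ∣ (centralizer ({u} : Set Y)).index) : u ∈ Sq u := by
  obtain ⟨R, hR, h⟩ := h
  obtain ⟨P, hP⟩ := hR.exists_le_sylow
  let Q : Sylow 2 (centralizer ({u} : Set Y)) := default
  have hQ : ¬ 2 ∣ (Q.1.map (centralizer ({u} : Set Y)).subtype).index := by
    rw [index_map_subtype]
    exact fun h => ((Nat.Prime.dvd_mul Nat.prime_two).1 h).elim Q.not_dvd_index hc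
  let Q' : Sylow 2 Y := (Q.isPGroup'.map _).toSylow hQ
  obtain ⟨g, hg⟩ := MulAction.exists_smul_eq Y Q' P
  have key := h (g * u * g⁻¹) (by rw [conj_pow, hu]; simp) fun r hr => by
    have : r ∈ (g • Q' : Sylow 2 Y) := hg ▸ hP hr
    obtain ⟨s, hs, rfl⟩ := this
    obtain ⟨s, -, rfl⟩ := hs
    have := mem_centralizer_singleton_iff.1 s.2
    exact (Commute.map (show Commute (s : Y) u from this) (MulAut.conj g) :)
  simpa [mul_assoc] using sq_conj g⁻¹ key

end H23.CZ
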