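import Mathlib
import Cfsg.Agent.Lib.Chz.Defs
import Cfsg.Agent.Lib.SL2.Invol

/-! Alternating groups and two-dimensional linear groups are good. -/

set_option autoImplicit false

namespace H23.CZ

open Cfsg Subgroup Equiv Equiv.Perm

theorem Alt.step {n : ℕ} (hn : 6 ≤ n) {u : Perm (Fin n)} (hu : ∀ x, u (u x) = x) {a b c d : Fin n}
    (h1 : u a = b) (h2 : u c = d) (ab : a ≠ b) (ac : a ≠ c) (ad : a ≠ d) (bc : b ≠ c) (bd : b ≠ d) (cd : c ≠ d) :
    ∃ x : Perm (Fin n), sign x = 1 ∧ Commute x u ∧ x * x = swap a b * swap c d := by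
  have h3 : u b = a := h1 ▸ hu a
  have h4 : u d = c := h2 ▸ hu c
  obtain ⟨e, f, ef, he, hf, h⟩ : ∃ e f, e ≠ f ∧ e ∉ ({a, b, c, d} : Finset (Fin n)) ∧
      f ∉ ({a, b, c, d} : Finset (Fin n)) ∧ swap (u e) (u f) = swap e f := by
    obtain ⟨e, he, f, hf, ef⟩ := Finset.one_lt_card.1 (show 1 < ({a, b, c, d} : Finset (Fin n))ᶜ.card by
      have := Finset.card_le_four (a := a) (b := b) (c := c) (d := d)
      rw [Finset.card_compl, Fintype.card_fin]
      omega)
    rw [Finset.mem_compl] at he hf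
    have k : ∀ e, e ∉ ({a, b, c, d} : Finset (Fin n)) → u e ∉ ({a, b, c, d} : Finset (Fin n)) := fun e he hc => he (by
      rw [← hu e]
      simp only [Finset.mem_insert, Finset.mem_singleton] at hc ⊢
      rcases hc with hc | hc | hc | hc <;> simp [hc, h1, h2, h3, h4])
    by_cases e1 : u e = e
    · by_cases e2 : u f = f
      · exact ⟨e, f, ef, he, hf, by rw [e1, e2]⟩
      · exact ⟨f, u f, Ne.symm e2, hf, k f hf, by rw [hu, swap_comm]⟩
    · exact ⟨e, u e, Ne.symm e1, he, k e he, by rw [hu, swap_comm]⟩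
  simp only [Finset.mem_insert, Finset.mem_singleton, not_or] at he hf
  have cm : ∀ {x : Perm (Fin n)}, u * x * u⁻¹ = x → Commute x u := fun h => (mul_inv_eq_iff_eq_mul.1 h).symm
  have dj : ∀ {p q r s : Fin n}, p ≠ r → p ≠ s → q ≠ r → q ≠ s → Commute (swap p q) (swap r s) :=
    fun h1 h2 h3 h4 => mul_inv_eq_iff_eq_mul.1 (by
      rw [← swap_apply_apply, swap_apply_of_ne_of_ne h1.symm h3.symm, swap_apply_of_ne_of_ne h2.symm h4.symm])
  have c1 := dj ac.symm.symm ad bc bd
  have c2 := dj ab ad bc.symm cd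
  refine ⟨swap a b * (swap a c * swap b d) * swap e f, by simp [ab, ac, bd, ef], ?_, ?_⟩
  · refine ((cm ?_).mul_left (cm ?_)).mul_left (cm ?_)
    · rw [← swap_apply_apply, h1, h3, swap_comm]
    · rw [← conj_mul, ← swap_apply_apply, ← swap_apply_apply, h1, h2, h3, h4, c2.eq]
    · rw [← swap_apply_apply, h]
  · rw [← sq, Commute.mul_pow ((dj he.1 he.2.1 hf.1 hf.2.1).mul_right ((dj he.1 he.2.2.1 hf.1 hf.2.2.1).mul_right
      (dj he.2.1 he.2.2.2 hf.2.1 hf.2.2.2))).symm, sq (swap e f), swap_mul_self, mul_one, sq, mul_assoc]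
    congr 1
    have : (swap a c * swap b d)⁻¹ = swap a c * swap b d := by rw [mul_inv_rev, swap_inv, swap_inv, c2.eq]
    rw [← mul_assoc]
    nth_rewrite 2 [← this]
    rw [← swap_apply_apply, mul_apply, mul_apply, swap_apply_of_ne_of_ne ab ad, swap_apply_left, swap_apply_left,
      swap_apply_of_ne_of_ne ad.symm cd.symm]

theorem good_alt {n : ℕ} (hn : 6 ≤ n) : Good (alternatingGroup (Fin n)) := by
  refine good_of_all fun u hu => ?_
  have hu' : ∀ x, u.1 (u.1 x) = x := fun x => by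
    rw [← mul_apply, ← Subgroup.coe_mul, ← sq, hu]; rfl
  suffices H : ∀ k, ∀ σ : alternatingGroup (Fin n), σ.1.support.card = k → (∀ x, σ.1 x = x ∨ σ.1 x = u.1 x) →
      σ ∈ Sq u from H _ u rfl fun _ => .inr rfl
  intro k
  induction k using Nat.strong_induction_on with
  | _ k ih =>
  rintro ⟨σ, hσ⟩ rfl h
  by_cases h1 : σ = 1
  · subst h1; exact one_mem _
  have back : ∀ a, σ a ≠ a → u.1 a = σ a ∧ σ (σ a) = a := fun a ha => by
    have e := (h a).resolve_left ha
    exact ⟨e.symm, ((h (σ a)).resolve_left fun k => ha (σ.injective k)).trans (e ▸ hu' a)⟩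
  obtain ⟨a, ha⟩ : ∃ a, σ a ≠ a := not_forall.1 fun e => h1 (Equiv.ext e)
  obtain ⟨c, hc⟩ : ∃ c, (σ * swap a (σ a)) c ≠ c := not_forall.1 fun e => by
    have := congrArg sign (show σ * swap a (σ a) = 1 from Equiv.ext e)
    simp [mem_alternatingGroup.1 hσ, ha.symm] at this
  have ac : a ≠ c := by rintro rfl; exact hc (by simp [(back a ha).2])
  have bc : σ a ≠ c := by rintro rfl; exact hc (by simp)
  rw [mul_apply, swap_apply_of_ne_of_ne ac.symm bc.symm] at hc
  have ad : a ≠ σ c := fun e => bc (e ▸ (back c hc).2)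
  have bd : σ a ≠ σ c := σ.injective.ne ac
  obtain ⟨x, x1, x2, x3⟩ := Alt.step hn hu' (back a ha).1 (back c hc).1 ha.symm ac ad bc bd hc.symm
  have hx : (⟨x, x1⟩ : alternatingGroup (Fin n)) * ⟨x, x1⟩ ∈ Sq u := mul_self_mem (Subtype.ext x2)
  have key : ∀ y, (σ * (x * x)) y = y ∨ (y ≠ a ∧ (σ * (x * x)) y = σ y) := fun y => by
    rw [x3, mul_apply, mul_apply]
    by_cases y1 : y = a
    · simp [y1, swap_apply_of_ne_of_ne ac ad, (back a ha).2]
    by_cases y2 : y = σ a
    · simp [y2, swap_apply_of_ne_of_ne bc bd]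
    by_cases y3 : y = c
    · simp [y3, swap_apply_of_ne_of_ne ad.symm bd.symm, (back c hc).2]
    by_cases y4 : y = σ c
    · simp [y4, swap_apply_of_ne_of_ne ac.symm bc.symm]
    · simp [y1, swap_apply_of_ne_of_ne y3 y4, swap_apply_of_ne_of_ne y1 y2]
  refine (mul_mem_cancel_right hx).1 (ih _ (Finset.card_lt_card ⟨fun y hy => ?_, fun e => ?_⟩) _ rfl fun y => ?_)
  · rw [mem_support] at hy ⊢
    exact ((key y).resolve_left hy).2 ▸ hy
  · exact ((key a).resolve_left (mem_support.1 (e (mem_support.2 ha)))).1 rfl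
  · rcases key y with e | ⟨-, e⟩
    · exact .inl e
    · exact (h y).imp e.trans e.trans

theorem good_psl2 {F : Type} [Field F] [Fintype F] (h2 : (2 : F) ≠ 0)
    (h3 : Fintype.card F % 8 ≠ 3) (h5 : Fintype.card F % 8 ≠ 5) :
    Good (Matrix.ProjectiveSpecialLinearGroup (Fin 2) F) := by
  obtain ⟨s, hs⟩ := FiniteField.isSquare_two_iff.2 ⟨h3, h5⟩
  have s0 : s ≠ 0 := by rintro rfl; exact h2 (by simpa using hs)
  let r : Matrix.SpecialLinearGroup (Fin 2) F := ⟨!![s⁻¹, -s⁻¹; s⁻¹, s⁻¹], by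
    rw [Matrix.det_fin_two_of]; field_simp; linear_combination hs⟩
  have hr : r * r = H29.matJ F := by
    refine H29.sl_ext ?_ ?_ ?_ ?_ <;> rw [H29.sl_mul_apply] <;> simp [r, H29.matJ_val] <;> field_simp <;>
      first | linear_combination hs | linear_combination -hs
  have hj : (H29.matJ F : Matrix.ProjectiveSpecialLinearGroup (Fin 2) F) ∈
      Sq (H29.matJ F : Matrix.ProjectiveSpecialLinearGroup (Fin 2) F) := by
    rw [← hr, QuotientGroup.mk_mul]
    exact mul_self_mem ((Commute.refl _).mul_right (Commute.refl _))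
  refine good_of_all fun u hu => ?_
  by_cases h1 : u = 1
  · subst h1; exact one_mem _
  obtain ⟨c, rfl⟩ := (H29.dihInv_psl h2).conj u (sq u ▸ hu) h1
  exact sq_conj c hj

end H23.CZ
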