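import Cfsg.Agent.Lib.Chz.Defs
import Cfsg.Agent.Lib.Lang.Cell
import Cfsg.Agent.Lib.ChevMat.SL2
import Cfsg.Agent.Lib.Twist.Orth

/-! Diagonal involutions in groups with root elements. -/

set_option autoImplicit false

namespace H23.CZ

open Subgroup H38 H39 H37

section Gen

variable {G : Type*} [Group G]

theorem pgroup_closure {S : Set G} (hc : ∀ a ∈ S, ∀ b ∈ S, Commute a b) (h4 : ∀ a ∈ S, a ^ 4 = 1) :
    IsPGroup 2 (closure S) := by
  have h1 : closure S ≤ centralizer S := (closure_le _).2 fun a ha b hb => (hc b hb a ha).eq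
  have h2 : closure S ≤ centralizer (closure S : Set G) := by
    rw [centralizer_closure]; exact h1
  rintro ⟨g, hg⟩
  refine ⟨2, Subtype.ext ?_⟩
  change g ^ 4 = 1
  induction hg using closure_induction with
  | mem a ha => exact h4 a ha
  | one => exact one_pow _
  | mul a b ha hb h h' => rw [Commute.mul_pow (h2 hb a ha), h, h', mul_one]
  | inv a _ h => rw [inv_pow, h, inv_one]

theorem exists_over [Finite G] {P M X : Subgroup G} (hP : IsPGroup 2 P) (h1 : P ≤ M)
    (h2 : M ≤ normalizer (X : Set G)) {n y : G} (h3 : M ≤ normalizer (zpowers n : Set G)) (h4 : y ∈ M)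
    (h5 : y ∈ X) (h6 : y ^ 4 = 1) (h7 : ¬ Commute y n) :
    ∃ R ≤ M, IsPGroup 2 R ∧ P ≤ R ∧ ∃ y' ∈ R, y' ∈ X ∧ ¬ Commute y' n := by
  obtain ⟨S, hS⟩ := (hP.comap_subtype (K := M)).exists_le_sylow
  have hy : IsPGroup 2 (closure {(⟨y, h4⟩ : M)}) :=
    pgroup_closure (by rintro _ rfl _ rfl; rfl) (by rintro _ rfl; exact Subtype.ext h6)
  obtain ⟨S', hS'⟩ := hy.exists_le_sylow
  obtain ⟨m, rfl⟩ := MulAction.exists_smul_eq M S' S
  refine ⟨_, map_subtype_le _, (m • S').isPGroup'.map _, fun g hg => ⟨⟨g, h1 hg⟩, hS hg, rfl⟩,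
    m * y * (m : G)⁻¹, ⟨m * ⟨y, h4⟩ * m⁻¹, ⟨_, hS' (subset_closure rfl), rfl⟩, rfl⟩,
    (mem_normalizer_iff.1 (h2 m.2) y).1 h5, fun h => h7 ?_⟩
  obtain ⟨k, hk⟩ := (mem_normalizer_iff.1 (h3 m.2) n).1 (mem_zpowers n)
  have := (h.zpow_right k).map (MulAut.conj (m : G)⁻¹)
  simp only at hk
  simpa [hk, mul_assoc] using this

end Gen

variable {ι l : Type} [Fintype l] [DecidableEq l] {R : RS ι l} {K : Type*} [Field K] {G : Type*} [Group G]
  {E : Elts R K G}

/-- The value of a root on a sum of fundamental coroots. -/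
def par (R : RS ι l) (L : List l) (r : ι) : ℤ := (L.map (R.wt r)).sum

/-- The signs on a list of nodes. -/
def cz (K : Type*) [Field K] (L : List l) : l → Kˣ := (L.map fun j => Pi.mulSingle j (-1)).prod

/-- The product of the standard monomial elements of a list of nodes. -/
def mm (E : Elts R K G) (L : List l) : G := (L.map fun j => E.n (R.sim j) 1).prod

theorem chi_cz (L : List l) (r : ι) : chi R r (cz K L) = (-1) ^ par R L r := by
  induction L with
  | nil => simp [cz, par]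
  | cons a L ih =>
    simp only [cz, par, List.map_cons, List.prod_cons, List.sum_cons, map_mul, zpow_add] at ih ⊢
    rw [ih, chi_apply, Finset.prod_eq_single a (fun b _ h => by simp [h]) (by simp), Pi.mulSingle_eq_same]

theorem cz_sq (L : List l) : cz K L ^ 2 = 1 := by
  induction L with
  | nil => simp [cz]
  | cons a L ih =>
    simp only [cz, List.map_cons, List.prod_cons, mul_pow] at ih ⊢
    rw [ih, ← Pi.mulSingle_pow]; simp

theorem even_of_sign (h2 : (2 : K) ≠ 0) {a b : ℤ} (h : (-1 : Kˣ) ^ a = (-1) ^ b) : Even (a - b) := by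
  by_contra o
  rw [← mul_inv_eq_one, ← zpow_sub, (Int.not_even_iff_odd.1 o).neg_one_zpow] at h
  have := congrArg Units.val h
  exact h2 (by simp only [Units.val_neg, Units.val_one] at this; linear_combination -this)

theorem sign_eq {a b : ℤ} (h : Even (a - b)) : (-1 : Kˣ) ^ a = (-1) ^ b := by
  rw [← mul_inv_eq_one, ← zpow_sub, h.neg_one_zpow]

variable (hF : E.Faith) (h3 : E.R3)

include h3 in
theorem n_sq (r : ι) : E.n r 1 * E.n r 1 = E.h r (-1) := by
  have h := h3 r (-1) (-1) (by simp) (by simp)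
  rw [neg_mul_neg, one_mul, E.h_one] at h
  rw [eq_inv_of_mul_eq_one_left h, PreElts.h, E.n_neg]
  simp

theorem mm_sq {L : List l} (h1 : L.Nodup) (h2 : ∀ j ∈ L, ∀ k ∈ L, j ≠ k → R.A j k = 0) :
    mm E L * mm E L = Elts.tor h3 (cz K L) := by
  have m := fun j => E.n_mem (S := {r | R.InSub {j} r}) (r := R.sim j) (R.inSub_sim.2 rfl)
    (R.inSub_neg.2 (R.inSub_sim.2 rfl)) (1 : K)
  rw [mm, list_prod_mul_of_commute h1 fun j hj k hk e => commute_orth E e (h2 j hj k hk e) (m j) (m k),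
    cz, map_list_prod, List.map_map]
  congr 2
  funext j
  simp [Elts.tor_single, n_sq h3]

theorem tor_n (c : l → Kˣ) (r : ι) :
    Elts.tor h3 c * E.n r 1 * (Elts.tor h3 c)⁻¹ = E.n r (chi R r c : Kˣ) := by
  have a := tor_x h3 c r 1
  have b := tor_x h3 c (R.neg r) (-1⁻¹)
  rw [chi_neg] at b
  simp only [PreElts.n, mul_one, Units.val_inv_eq_inv_val, inv_one, mul_neg] at a b ⊢
  rw [← a, ← b]
  group

include hF in
theorem exists_tor_conj {n : G} {w : Equiv.Perm ι} (hn : E.Rep n w) (c : l → Kˣ) :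
    ∃ c', Elts.tor h3 c' = n * Elts.tor h3 c * n⁻¹ ∧ ∀ r, chi R (w r) c' = chi R r c := by
  obtain ⟨c', h⟩ := exists_tor h3 (E.conj_mem_H hn.mem_N (tor_mem h3 c))
  refine ⟨c', h, fun r => ?_⟩
  obtain ⟨d, hd, e⟩ := hn.conj_x r
  have a := tor_x h3 c' (w r) (d * 1)
  rw [← e, h, show ∀ t x : G, n * t * n⁻¹ * (n * x * n⁻¹) * (n * t * n⁻¹)⁻¹ = n * (t * x * t⁻¹) * n⁻¹ from
    fun _ _ => by group, tor_x, e] at a
  have := hF.x_inj _ a
  exact Units.ext (mul_left_cancel₀ hd (by linear_combination -this))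

include hF h3 in
theorem eq_one_of_n {r s : ι} (hs : Odd (R.pair r s)) {a : K} (ha : a ≠ 0) (h : E.n r a = E.n r 1) : a = 1 := by
  have h1 : E.h r a = 1 := by rw [PreElts.h, h, E.n_neg, mul_inv_cancel]
  have k : ∀ s, a ^ R.pair r s = 1 := fun s => by
    have := E.hconj r s ha 1
    rw [h1, one_mul, inv_one, mul_one, mul_one] at this
    exact (hF.x_inj _ this).symm
  obtain ⟨m, hm⟩ := hs
  have := k s
  rwa [hm, zpow_add₀ ha, zpow_mul, ← R.pair_self r, k r, one_zpow, one_mul, zpow_one] at this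

variable [Finite ι]

include hF h3 in
theorem mem_N_of_comm {S : Set G} (hS : ∀ t ∈ S, t ∈ E.H) (hK : Ker E S = ∅) {u : G} (hu : u ∈ E.Gp)
    (hc : ∀ t ∈ S, Commute t u) : u ∈ E.N := by
  obtain ⟨b, hb, n, w, hn, v, hv, rfl⟩ := E.bruhat hu
  have h1 : v = 1 := by
    have := mem_XS_Ker hF h3 hS (R.closed_Inv hn.mem_W) (fun r h => h.1) hv fun t ht => by
      have a : t * b * t⁻¹ * (t * (n * t⁻¹ * n⁻¹)) * n * (t * v * t⁻¹) = b * n * v := by
        rw [← mul_inv_cancel_right (b * n * v) t, ← (hc t ht).eq]; group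
      have hH := E.H_le_B (hS t ht)
      exact (hF.bruhat_unique_bu hn (mul_mem (mul_mem (mul_mem hH hb) (inv_mem hH)) (mul_mem hH
        (E.H_le_B (E.conj_mem_H hn.mem_N (inv_mem (hS t ht)))))) hb (E.H_conj_mem_XS (hS t ht) hv) hv a).2
    rwa [hK, Set.inter_empty, E.XS_empty, mem_bot] at this
  subst h1
  have := (mem_BS_Ker hF h3 (t := fun t : S => (t : G)) (t' := fun t : S => n * t * n⁻¹) (fun t => hS t t.2)
    (fun t => E.conj_mem_H hn.mem_N (hS t t.2)) R.closed_pos (fun _ h => h) (E.BS_pos ▸ hb) fun t => by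
      have := (hc t t.2).eq
      rw [mul_one] at this
      rw [← mul_assoc, ← mul_assoc, ← this]; group).2
  rw [Subtype.range_coe, hK, Set.inter_empty, Elts.BS, E.XS_empty, bot_sup_eq] at this
  exact mul_mem (mul_mem (E.H_le_N this) hn.mem_N) (one_mem _)

include h3 in
theorem exists_y {p : ℕ} [NeZero p] [CharP K p] (r : ι) : ∃ a b c : K, (∀ f : K ≃+* K, f a = a ∧ f b = b ∧ f c = c) ∧
    (E.x r a * E.x (R.neg r) b * E.x r c) ^ 4 = 1 ∧
    E.x r a * E.x (R.neg r) b * E.x r c * E.n r 1 = (E.n r 1)⁻¹ * (E.x r a * E.x (R.neg r) b * E.x r c) := by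
  obtain ⟨s, t, h, ht⟩ : ∃ s t : ℕ, (s : K) ^ 2 + (t : K) ^ 2 = -1 ∧ (t : K) ≠ 0 := by
    obtain ⟨s, t, h⟩ := CharP.sq_add_sq K p (-1)
    push_cast at h
    by_cases ht : (t : K) = 0
    · exact ⟨t, s, by rw [add_comm, h], fun hs => by simp [hs, ht] at h⟩
    · exact ⟨s, t, h, ht⟩
  obtain ⟨φ, -, hφ⟩ := exists_sl2_hom E h3 r
  refine ⟨(s - 1) / t, t, (-s - 1) / t, fun f => by simp, ?_⟩
  have p := fun a => (hφ _ a).1 (Rk1.slx_true a)
  have q := fun a => (hφ _ a).2 (Rk1.slx_false a)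
  have e : (Rk1.slx true ((s - 1) / t : K) * Rk1.slx false (t : K) * Rk1.slx true ((-s - 1) / t : K)).1 =
      !![(s : K), t; t, -s] := by
    simp only [Matrix.SpecialLinearGroup.coe_mul, Rk1.slx_true, Rk1.slx_false]
    ext i j
    fin_cases i <;> fin_cases j <;> simp [Matrix.mul_apply, Fin.sum_univ_two] <;> field_simp <;>
      first | ring1 | linear_combination -h
  have e' : (Rk1.slx true (1 : K) * Rk1.slx false (-1⁻¹ : K) * Rk1.slx true (1 : K)).1 = !![0, 1; -1, 0] := by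
    simp only [Matrix.SpecialLinearGroup.coe_mul, Rk1.slx_true, Rk1.slx_false]
    ext i j
    fin_cases i <;> fin_cases j <;> simp [Matrix.mul_apply, Fin.sum_univ_two]
  simp only [PreElts.n, ← p, ← q, ← map_mul, ← map_pow, ← map_inv]
  generalize Rk1.slx true ((s - 1) / t : K) * Rk1.slx false (t : K) * Rk1.slx true ((-s - 1) / t : K) = y at e
  generalize Rk1.slx true (1 : K) * Rk1.slx false (-1⁻¹ : K) * Rk1.slx true (1 : K) = n at e'
  have y2 : y * y = -1 := Subtype.ext (by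
    rw [Matrix.SpecialLinearGroup.coe_mul, e]
    ext i j
    fin_cases i <;> fin_cases j <;> simp [Matrix.mul_apply, Fin.sum_univ_two] <;>
      first | ring1 | linear_combination h)
  refine ⟨by rw [show y ^ 4 = y * y * (y * y) by simp [pow_succ, mul_assoc], y2]; simp, congrArg φ ?_⟩
  rw [eq_inv_mul_iff_mul_eq]
  refine Subtype.ext ?_
  simp only [Matrix.SpecialLinearGroup.coe_mul, e, e']
  ext i j
  fin_cases i <;> fin_cases j <;> simp [Matrix.mul_apply, Fin.sum_univ_two]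

end H23.CZ
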