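import Cfsg.Agent.Lib.Chz.ExA

/-! The fixed group of a twist is good, under combinatorial conditions on the roots. -/

set_option autoImplicit false

namespace H23.CZ

open Subgroup H38 H39 H37

variable {ι l : Type} [Fintype l] [DecidableEq l] {R : RS ι l} {K : Type*} [Field K] {G : Type*} [Group G]
  {E : Elts R K G}

/-- A fundamental reflection on coweights. -/
def rf (A : l → l → ℤ) (j : l) (ε : l → ℤ) : l → ℤ := fun k => ε k - A j k * ε j

/-- Sign vectors that reflect to a sum of fundamental coroots on which they are even. -/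
inductive Fn (A : l → l → ℤ) (o : l → List l) : (l → ℤ) → Prop
  | base (I : List l) (ε : l → ℤ) : (∀ i ∈ I, ∀ j ∈ o i, Even (ε j)) →
      (∀ k, Even (ε k - (I.map fun i => ((o i).map (A · k)).sum).sum)) → Fn A o ε
  | step (i : l) (ε : l → ℤ) : Fn A o ((o i).foldr (rf A) ε) → Fn A o ε
  | congr (ε ε' : l → ℤ) : (∀ k, Even (ε' k - ε k)) → Fn A o ε' → Fn A o ε

/-- The combinatorial conditions. -/
structure Dat (R : RS ι l) (ρ : l → l) (o : l → List l) (j0 : l) (Fr : List l) : Prop where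
  c0 : ∀ r, ∃ i, Odd (par R (o i) r)
  rig : ∀ w ∈ R.W, (∀ i r, Even (par R (o i) (w r) - par R (o i) r)) →
    (∀ k, (∀ i, R.wt (w (R.sim k)) (ρ i) = R.wt (w (R.sim k)) i) ↔ ρ k = k) → w (R.sim j0) = R.sim j0 → w = 1
  mem : j0 ∈ Fr
  fix : ∀ j ∈ Fr, ρ j = j ∧ ∃ k, Odd (R.A j k)
  orth : ∀ j ∈ Fr, ∀ k ∈ Fr, j ≠ k → R.A j k = 0
  sym : ∀ i j, R.A (ρ i) (ρ j) = R.A i j
  fin : ∀ ε : l → ℤ, (∀ k, Even (ε (ρ k) - ε k)) → (∀ j ∈ Fr, Even (ε j)) → Fn R.A o ε

/-- A diagonal element acting by signs on the fundamental root subgroups. -/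
def Act (h3 : E.R3) (u : G) (ε : l → ℤ) : Prop :=
  ∃ c, Elts.tor h3 c = u ∧ ∀ k, chi R (R.sim k) c = (-1) ^ ε k

variable {h3 : E.R3} {u v : G} {ε δ : l → ℤ}

theorem Act.congr (h : Act h3 u ε) (e : ∀ k, Even (δ k - ε k)) : Act h3 u δ :=
  h.imp fun _ h => ⟨h.1, fun k => (h.2 k).trans (sign_eq (e k)).symm⟩

theorem Act.mul (h : Act h3 u ε) (h' : Act h3 v δ) : Act h3 (u * v) fun k => ε k + δ k := by
  obtain ⟨c, rfl, h⟩ := h
  obtain ⟨d, rfl, h'⟩ := h'
  exact ⟨c * d, map_mul _ _ _, fun k => by rw [map_mul, h, h', zpow_add]⟩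

theorem Act.conj (hF : E.Faith) (h : Act h3 u ε) (L : List l) :
    Act h3 (mm E L * u * (mm E L)⁻¹) (L.foldr (rf R.A) ε) := by
  induction L with
  | nil => simpa [mm] using h
  | cons j L ih =>
    obtain ⟨c, e, h⟩ := ih
    obtain ⟨c', e', h'⟩ := exists_tor_conj hF h3 (E.rep_n_sim j one_ne_zero) c
    refine ⟨c', by rw [e', e]; simp [mm, mul_assoc], fun k => ?_⟩
    have := h' (R.σ j (R.sim k))
    rw [R.s_apply, R.σ_σ, chi_comb (k := R.σ j (R.sim k)) (r := R.sim k) (s := R.sim j) (i := 1) (j := -R.A j k)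
      (by rw [R.rt_σ, R.wt_sim, one_smul, neg_smul, sub_eq_add_neg]), h, h, zpow_one, ← zpow_mul,
      ← zpow_add] at this
    rw [this, List.foldr_cons, rf]
    congr 1
    ring

theorem Act.comm (h : Act h3 u ε) {L : List l} (e : ∀ j ∈ L, Even (ε j)) : Commute (mm E L) u := by
  obtain ⟨c, rfl, h⟩ := h
  refine (Commute.list_prod_right _ _ fun x hx => ?_).symm
  obtain ⟨j, hj, rfl⟩ := List.mem_map.1 hx
  have := tor_n h3 c (R.sim j)
  rw [h, (e j hj).neg_one_zpow, Units.val_one, mul_inv_eq_iff_eq_mul] at this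
  exact this

variable [Finite ι] {T : Tw E} {o : l → List l} (hz : center G = ⊥) (ho : ∀ i, T.S.Orth i (o i))

include hz in
theorem Act.unique (T : Tw E) (h : Act h3 u ε) (h' : Act h3 v ε) : u = v := by
  obtain ⟨c, rfl, h⟩ := h
  obtain ⟨d, rfl, h'⟩ := h'
  rw [← mul_inv_eq_one, ← map_inv, ← map_mul, tor_eq_one_iff T.hF T.hG h3 hz]
  funext k
  have : chi R (R.sim k) (c * d⁻¹) = 1 := by rw [map_mul, map_inv, h, h', mul_inv_cancel]
  simpa only [chi_apply, R.wt_sim, ψ_apply, Pi.one_apply] using this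

include ho in
theorem mm_mem (i : l) : mm E (o i) ∈ T.Γ :=
  T.G1_le_Γ (Tw.orth_n_mem (ho i) (c := fun _ => 1) fun _ _ => (map_one _).symm)

include hz ho in
theorem Fn.sq (h : Fn R.A o ε) (u : T.Γ) (hu : Act h3 (u : G) ε) : u ∈ Sq u := by
  induction h generalizing u with
  | base I ε h1 h2 =>
    have a : ∀ I : List l, Act h3 ((I.map fun i => (⟨_, mm_mem ho i⟩ * ⟨_, mm_mem ho i⟩ : T.Γ)).prod : T.Γ)
        fun k => (I.map fun i => ((o i).map (R.A · k)).sum).sum := fun I => by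
      induction I with
      | nil => exact ⟨1, by simp, by simp⟩
      | cons i I ih =>
        simp only [List.map_cons, List.prod_cons, List.sum_cons, coe_mul]
        refine Act.mul ⟨_, (mm_sq h3 (ho i).nodup (ho i).orth).symm, fun k => ?_⟩ ih
        rw [chi_cz, par]
        simp only [funext fun j => R.wt_sim j k]
    have e := Subtype.ext (hu.unique hz T ((a I).congr h2))
    nth_rewrite 2 [e]
    refine (Sq u).list_prod_mem fun x hx => ?_
    obtain ⟨i, hi, rfl⟩ := List.mem_map.1 hx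
    exact mul_self_mem (Subtype.ext (hu.comm (h1 i hi)).eq)
  | step i ε _ ih =>
    have := ih (⟨_, mm_mem ho i⟩ * u * (⟨_, mm_mem ho i⟩ : T.Γ)⁻¹) (hu.conj T.hF (o i))
    simpa [mul_assoc] using sq_conj (⟨_, mm_mem ho i⟩ : T.Γ)⁻¹ this
  | congr ε ε' h1 _ ih => exact ih u (hu.congr h1)

theorem wt_τ (T : Tw E) (hA : ∀ i j, R.A (T.ρ i) (T.ρ j) = R.A i j) (r : ι) (i : l) :
    R.wt (T.S.τ r) (T.ρ i) = R.wt r i := by
  have key : ∀ r i, R.rt (T.S.τ r) (T.ρ i) = R.rt r i := fun r => by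
    induction r using R.root_induction with
    | h0 j => simp [T.S.τ_sim, R.rt_sim, T.S_ρ, Pi.single_apply]
    | h1 j r ih =>
      have : R.wt (T.S.τ r) (T.ρ j) = R.wt r j := by
        simp only [RS.wt, RS.wtv]
        exact (Finset.sum_equiv T.ρ (by simp) fun k _ => by rw [ih, hA]).symm
      intro i
      rw [← R.s_apply, T.S.τ_s, R.s_apply, R.s_apply, R.rt_σ, R.rt_σ, T.S_ρ]
      simp [ih, this, R.rt_sim, Pi.single_apply]
  simp only [RS.wt, RS.wtv]
  exact (Finset.sum_equiv T.ρ (by simp) fun k _ => by rw [key, hA]).symm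

/-- The diagonal involutions fixed by the twist. -/
def Om (T : Tw E) (h3 : E.R3) : Subgroup G where
  carrier := {h | h ∈ E.H ∧ h ∈ T.Γ ∧ h * h = 1}
  mul_mem' := fun {a b} ha hb => ⟨mul_mem ha.1 hb.1, mul_mem ha.2.1 hb.2.1, by
    rw [← sq, (Elts.H_comm h3 ha.1 hb.1).mul_pow, sq, sq, ha.2.2, hb.2.2, mul_one]⟩
  one_mem' := ⟨one_mem _, one_mem _, mul_one _⟩
  inv_mem' := fun ha => ⟨inv_mem ha.1, inv_mem ha.2.1, by rw [← mul_inv_rev, ha.2.2, inv_one]⟩

omit [Finite ι] in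
theorem chi_sign (hF : E.Faith) {c : l → Kˣ} (h : Elts.tor h3 c * Elts.tor h3 c = 1) (r : ι) :
    chi R r c = 1 ∨ chi R r c = -1 := by
  rw [← map_mul, ← map_one (Elts.tor h3)] at h
  have := congrArg Units.val (chi_eq_of_tor hF h3 h r)
  rw [map_mul, map_one, Units.val_mul, Units.val_one, mul_self_eq_one_iff] at this
  exact this.imp (fun h => Units.ext h) fun h => Units.ext h

theorem mem_norm_zpowers {G : Type*} [Group G] [Finite G] {g n : G} (h : g * n * g⁻¹ ∈ zpowers n) :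
    g ∈ normalizer (zpowers n : Set G) := mem_normalizer_fintype (by
  rintro _ ⟨k, rfl⟩
  simp only
  rw [← conj_zpow]
  exact zpow_mem h k)

include hz ho h3 in
theorem good_tw [Finite G] {p : ℕ} [NeZero p] [CharP K p] (h2 : (2 : K) ≠ 0) {j0 : l} {Fr : List l}
    (d : Dat R T.ρ o j0 Fr) : Good T.Γ := by
  have hF := T.hF
  have nX := fun j => E.n_mem (S := {r | R.InSub {j} r}) (r := R.sim j) (R.inSub_sim.2 rfl)
    (R.inSub_neg.2 (R.inSub_sim.2 rfl)) (1 : K)
  have nΓ : ∀ j ∈ Fr, E.n (R.sim j) 1 ∈ T.Γ := fun j hj => by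
    rw [T.mem_Γ, T.σ_n, (d.fix j hj).1, map_one]
  have ninj : ∀ j ∈ Fr, ∀ a : K, a ≠ 0 → E.n (R.sim j) a = E.n (R.sim j) 1 → a = 1 := fun j hj a ha h => by
    obtain ⟨k, hk⟩ := (d.fix j hj).2
    exact eq_one_of_n hF h3 (s := R.sim k) (by rwa [R.pair_sim_left, R.wt_sim]) ha h
  have m1 : (-1 : K) ≠ 1 := fun h => h2 (by linear_combination -h)
  set n := E.n (R.sim j0) 1 with hn
  set X := E.XS {r | R.InSub {j0} r} with hX
  let D := closure ((fun j => E.n (R.sim j) (1 : K)) '' {j | j ∈ Fr})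
  have hD : IsPGroup 2 D := pgroup_closure (by
    rintro _ ⟨j, hj, rfl⟩ _ ⟨k, hk, rfl⟩
    by_cases e : j = k
    · rw [e]
    · exact commute_orth E e (d.orth j hj k hk e) (nX j) (nX k)) (by
    rintro _ ⟨j, -, rfl⟩
    rw [show (4 : ℕ) = 2 * 2 from rfl, pow_mul, sq, sq, n_sq h3, h3 _ _ _ (by simp) (by simp)]
    simp [E.h_one])
  have hO : IsPGroup 2 (Om T h3) := fun g => ⟨1, Subtype.ext (by simpa [sq] using g.2.2.2)⟩
  have hP := hO.to_sup_of_normal_left' hD ((closure_le _).2 (by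
    rintro _ ⟨j, hj, rfl⟩
    exact mem_normalizer_fintype fun h hh => ⟨E.conj_mem_H (E.n_mem_N _ one_ne_zero) hh.1,
      mul_mem (mul_mem (nΓ j hj) hh.2.1) (inv_mem (nΓ j hj)), by rw [conj_mul, hh.2.2]; simp⟩))
  obtain ⟨a, b, c, f, y4, yn⟩ := exists_y (E := E) h3 (p := p) (R.sim j0)
  set y := E.x (R.sim j0) a * E.x (R.neg (R.sim j0)) b * E.x (R.sim j0) c with hy
  have xp := fun t => E.x_mem_XS (S := {r | R.InSub {j0} r}) (R.inSub_sim.2 rfl) t
  have xn := fun t => E.x_mem_XS (S := {r | R.InSub {j0} r}) (R.inSub_neg.2 (R.inSub_sim.2 rfl)) t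
  have yX : y ∈ X := mul_mem (mul_mem (xp a) (xn b)) (xp c)
  obtain ⟨Q, hQ, hQ2, hPQ, y', hy1, hy2, hy3⟩ := exists_over
    (M := T.Γ ⊓ normalizer (X : Set G) ⊓ normalizer (zpowers n : Set G)) (X := X) (n := n) (y := y) hP
    (sup_le (fun h hh => ⟨⟨hh.2.1, E.H_le_normalizer _ hh.1⟩, mem_norm_zpowers (by
      obtain ⟨c, rfl⟩ := exists_tor h3 hh.1
      rw [hn, tor_n]
      rcases chi_sign hF hh.2.2 (R.sim j0) with e | e <;> rw [e]
      · exact mem_zpowers _
      · rw [Units.val_neg, Units.val_one, E.n_neg]; exact inv_mem (mem_zpowers _))⟩) ((closure_le _).2 (by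
      rintro _ ⟨j, hj, rfl⟩
      by_cases e : j = j0
      · subst e
        exact ⟨⟨nΓ j hj, le_normalizer (nX j)⟩, le_normalizer (mem_zpowers _)⟩
      · have k := fun x hx => (commute_orth E e (d.orth j hj j0 d.mem e) (nX j) (b := x) hx).eq
        refine ⟨⟨nΓ j hj, mem_normalizer_fintype fun x hx => ?_⟩, mem_norm_zpowers ?_⟩
        · rwa [k x hx, mul_inv_cancel_right]
        · rw [k _ (nX j0), mul_inv_cancel_right]; exact mem_zpowers _)))
    (inf_le_left.trans inf_le_right) inf_le_right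
    ⟨⟨by
      have := f (T.φ j0)
      refine T.mem_Γ.2 ?_
      rw [hy, map_mul, map_mul, T.σ_pos, T.σ_pos, T.σ_neg, (d.fix _ d.mem).1,
        this.1, this.2.1, this.2.2], le_normalizer yX⟩, mem_norm_zpowers (by
      rw [yn, mul_inv_cancel_right]; exact inv_mem (mem_zpowers _))⟩ yX y4 (fun h => by
      rw [h.eq, mul_left_inj, hn, ← E.n_neg] at yn
      exact m1 (ninj _ d.mem _ (by simp) yn.symm))
  refine ⟨Q.subgroupOf T.Γ, hQ2.comap_subtype, fun u hu hc => ?_⟩
  have hc : ∀ g ∈ Q, Commute g (u : G) := fun g hg =>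
    congrArg Subtype.val (hc ⟨g, (hQ hg).1.1⟩ hg).eq
  have cO := fun g hg => hc g (hPQ (mem_sup_left hg))
  have cn : ∀ j ∈ Fr, (u : G) * E.n (R.sim j) 1 * (u : G)⁻¹ = E.n (R.sim j) 1 := fun j hj => by
    rw [← (hc _ (hPQ (mem_sup_right (subset_closure ⟨j, hj, rfl⟩)))).eq, mul_inv_cancel_right]
  have zO : ∀ i, Elts.tor h3 (cz K (o i)) ∈ Om T h3 := fun i => ⟨tor_mem h3 _, by
    rw [← mm_sq h3 (ho i).nodup (ho i).orth]; exact mul_mem (mm_mem ho i) (mm_mem ho i), by
    rw [← map_mul, ← sq, cz_sq, map_one]⟩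
  obtain ⟨w, hw⟩ := E.exists_rep_of_mem_N (mem_N_of_comm hF h3 (S := Om T h3) (fun _ h => h.1)
    (Set.eq_empty_of_forall_notMem fun r hr => by
      obtain ⟨i, hi⟩ := d.c0 r
      have := (mem_Ker_tor hF h3).1 (mem_Ker_iff.1 hr _ (zO i))
      rw [chi_cz] at this
      exact Int.not_even_iff_odd.2 hi (by simpa using even_of_sign h2 (this.trans (zpow_zero _).symm))) (T.hG.ge trivial) cO)
  have hW := T.mem_W1_of_rep hw u.2
  have w1 : w = 1 := by
    refine d.rig w hw.mem_W (fun i r => even_of_sign h2 ?_) (fun k => ⟨fun h => ?_, fun h i => ?_⟩) ?_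
    · obtain ⟨c', e, h⟩ := exists_tor_conj hF h3 hw (cz K (o i))
      rw [← (cO _ (zO i)).eq, mul_inv_cancel_right] at e
      rw [← chi_cz, ← chi_cz, ← h r, chi_eq_of_tor hF h3 e]
    · have : T.S.τ (w (R.sim k)) = w (R.sim k) := R.wt_inj fun i => by
        obtain ⟨i, rfl⟩ := T.ρ.surjective i
        rw [wt_τ T d.sym, h]
      rw [← T.S.W1_apply hW, T.S.τ_sim] at this
      exact R.sim_inj (w.injective this)
    · rw [← wt_τ T d.sym _ i, ← T.S.W1_apply hW, T.S.τ_sim, T.S_ρ, h]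
    · obtain ⟨c, c0, h⟩ := hw.conj_n (R.sim j0)
      have a := E.rep_n (w (R.sim j0)) (mul_ne_zero c0 one_ne_zero)
      rw [← h, cn _ d.mem] at a
      have b := congrArg (fun π : Equiv.Perm ι => R.rt (π (R.sim j0)))
        (hF.rep_unique a (E.rep_n _ one_ne_zero))
      simp only [R.rt_refl, R.pair_self] at b
      have b0 : R.pair (w (R.sim j0)) (R.sim j0) ≠ 0 := fun e => by
        simpa [e, R.rt_sim] using congrFun b j0
      refine (R.eq_sim_of_supp (i := j0) fun j hj => ?_).resolve_right fun e => hy3 ?_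
      · simpa [b0, R.rt_sim, hj] using congrFun b j
      obtain ⟨c, c0, h1, h4⟩ := hw.acts (R.sim j0)
      rw [R.W_neg hw.mem_W, e, R.neg_neg] at h4
      rw [e] at h1
      have a : (u : G) * E.n (R.sim j0) 1 * (u : G)⁻¹ = E.n (R.neg (R.sim j0)) c := by
        have a1 := h1 1
        have a2 := h4 (-1⁻¹)
        simp only [PreElts.n, R.neg_neg, mul_one, inv_one, mul_neg] at a1 a2 ⊢
        rw [← a1, ← a2]
        group
      rw [cn _ d.mem, E.n_neg_root _ c0] at a
      have c1 : c = -1 := by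
        have := ninj _ d.mem _ (by simpa using c0) a.symm
        rw [neg_eq_iff_eq_neg, inv_eq_iff_eq_inv] at this
        simpa using this
      have k : ∀ g ∈ X, (u : G) * g * (u : G)⁻¹ = n * g * n⁻¹ := fun g hg => by
        refine E.XS_induction (P := fun g => (u : G) * g * (u : G)⁻¹ = n * g * n⁻¹) hg (fun r hr t => ?_)
          (by simp) fun a b _ _ ha hb => by rw [← conj_mul, ha, hb, conj_mul]
        rcases R.inSub_singleton.1 hr with rfl | rfl
        · rw [h1, hn, E.nconj_self _ one_ne_zero, c1]; simp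
        · rw [h4, hn, E.nconj_neg_self _ one_ne_zero, c1]; simp
      have := k y' hy2
      rw [← (hc y' hy1).eq, mul_inv_cancel_right, eq_mul_inv_iff_mul_eq] at this
      exact this
  subst w1
  obtain ⟨c, e⟩ := exists_tor h3 hw.mem_H
  have s := chi_sign (h3 := h3) hF (c := c) (by rw [e, ← sq]; exact congrArg Subtype.val hu)
  classical
  have h : ∀ k, chi R (R.sim k) c = (-1) ^ (if chi R (R.sim k) c = 1 then 0 else 1 : ℤ) := fun k => by
    split_ifs with h
    · rw [h, zpow_zero]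
    · rw [(s _).resolve_left h, zpow_one]
  refine (d.fin _ (fun k => even_of_sign h2 ?_) fun j hj => ?_).sq hz ho u ⟨c, e, h⟩
  · rw [← h, ← h]
    have a := congrArg T.σ (tor_x h3 c (R.sim k) 1)
    rw [map_mul, map_mul, map_inv, e, T.mem_Γ.1 u.2, T.σ_pos, T.σ_pos, ← e, tor_x] at a
    have := hF.x_inj _ a
    rcases s (R.sim k) with e | e <;> rw [e] at this ⊢ <;> exact Units.ext (by simpa using this)
  · have := tor_n h3 c (R.sim j)
    rw [e, cn j hj] at this
    rw [if_pos (Units.ext (ninj j hj _ (Units.ne_zero _) this.symm))]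
    exact Even.zero

end H23.CZ
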