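import Cfsg.Agent.Lib.Chz.ExB
import Cfsg.Agent.Lib.Chev.Main
import Cfsg.Agent.Lib.Twist.E6Mat
import Cfsg.Agent.Lib.Twist.D4Mat

/-! The exceptional groups in odd characteristic are good. -/

set_option autoImplicit false
set_option synthInstance.maxSize 2000

namespace H23.CZ

open Cfsg Cfsg.Lie Subgroup H38 H39 H37

section Fin

variable {n : ℕ} (A : Fin n → Fin n → ℤ) (o : Fin n → List (Fin n))

/-- The bits of a number. -/
def bit (m : ℕ) (k : Fin n) : ℤ := if m.testBit k then 1 else 0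

/-- The number given by the parities. -/
def code (ε : Fin n → ℤ) : ℕ := Nat.ofBits fun k => decide (Odd (ε k))

theorem bit_code (ε : Fin n → ℤ) (k : Fin n) : Even (bit (code ε) k - ε k) := by
  rw [bit, code, Nat.testBit_ofBits_lt _ _ k.2]
  by_cases h : Odd (ε k) <;> simp [h, parity_simps, ← Int.not_odd_iff_even]

/-- The condition of the base case. -/
def Bs (ε : Fin n → ℤ) (I : List (Fin n)) : Prop :=
  (∀ i ∈ I, ∀ j ∈ o i, Even (ε j)) ∧ ∀ k, Even (ε k - (I.map fun i => ((o i).map (A · k)).sum).sum)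

instance (ε : Fin n → ℤ) (I : List (Fin n)) : Decidable (Bs A o ε I) := by unfold Bs; infer_instance

/-- The table of depths is correct. -/
def Dep (ρ : Fin n → Fin n) (Fr : List (Fin n)) (t : ℕ) : Prop := ∀ m < 2 ^ n,
  ((∀ k, Even (bit m (ρ k) - bit m k)) → (∀ j ∈ Fr, Even (bit m j)) → byte t m < 255) ∧
  (byte t m < 255 → if byte t m = 0 then Bs A o (bit m) [] ∨ ∃ i, Bs A o (bit m) [i] ∨ ∃ j, Bs A o (bit m) [i, j]
    else ∃ i, byte t (code ((o i).foldr (rf A) (bit m))) < byte t m)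

instance (ρ : Fin n → Fin n) (Fr : List (Fin n)) (t : ℕ) : Decidable (Dep A o ρ Fr t) := by
  unfold Dep; infer_instance

variable {A o}

theorem Dep.fn {ρ : Fin n → Fin n} {Fr : List (Fin n)} {t : ℕ} (h : Dep A o ρ Fr t) (ε : Fin n → ℤ)
    (h1 : ∀ k, Even (ε (ρ k) - ε k)) (h2 : ∀ j ∈ Fr, Even (ε j)) : Fn A o ε := by
  have key : ∀ d (ε : Fin n → ℤ), byte t (code ε) = d → d < 255 → Fn A o ε := fun d => by
    induction d using Nat.strong_induction_on with
    | _ d ih =>
      rintro ε rfl hd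
      refine .congr _ _ (bit_code ε) ?_
      have := (h (code ε) (Nat.ofBits_lt_two_pow _)).2 hd
      split_ifs at this
      · rcases this with b | ⟨i, b | ⟨j, b⟩⟩ <;> exact .base _ _ b.1 b.2
      · obtain ⟨i, b⟩ := this
        exact .step i _ (ih _ b _ rfl (b.trans hd))
  refine key _ ε rfl ((h (code ε) (Nat.ofBits_lt_two_pow _)).1 (fun k => ?_) fun j hj => ?_)
  · have := ((bit_code ε (ρ k)).add (h1 k)).sub (bit_code ε k)
    rwa [show ∀ a b c d : ℤ, a - b + (b - c) - (d - c) = a - d from fun _ _ _ _ => by ring] at this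
  · simpa using (bit_code ε j).add (h2 j hj)

end Fin

variable (D : ChevalleyDatum) (ρ : Fin D.rank → Fin D.rank) (o : Fin D.rank → List (Fin D.rank))

/-- The Cartan matrix. -/
def cA (i j : Fin D.rank) : ℤ := D.cartan i (D.simple j)

/-- The value of a root on an orbit of coroots. -/
def cP (i : Fin D.rank) (r : ℕ) : ℤ := ((o i).map fun j : Fin D.rank => D.cartan j r).sum

/-- The image of one more fundamental root is determined. -/
def Stp (fx : List (Fin D.rank)) (k : Fin D.rank) : Prop := ∀ s < D.nroots,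
  (∀ i, Even (cP D o i s - cP D o i (D.simple k))) → ((∀ i, D.cartan (ρ i) s = D.cartan i s) ↔ ρ k = k) →
  (∀ j ∈ fx, ∃ j' ∈ o j, D.cartan j' s = cA D j k ∧ D.pairing s (D.simple j') = cA D k j) →
  ∃ j ∈ o k, s = D.simple j

instance (fx : List (Fin D.rank)) (k : Fin D.rank) : Decidable (Stp D ρ o fx k) := by
  unfold Stp; infer_instance

/-- All steps. -/
def Stps : List (Fin D.rank) → List (Fin D.rank) → Bool
  | _, [] => true
  | fx, k :: L => decide (Stp D ρ o fx k) && Stps (k :: fx) L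

/-- All checks. -/
def Chk (j0 : Fin D.rank) (Fr L : List (Fin D.rank)) (t : ℕ) : Prop :=
  (∀ r < D.nroots, ∃ i, Odd (cP D o i r)) ∧ Stps D ρ o [j0] L = true ∧ (∀ k, k = j0 ∨ k ∈ L) ∧ j0 ∈ o j0 ∧
  j0 ∈ Fr ∧ (∀ j ∈ Fr, ρ j = j ∧ ∃ k, Odd (cA D j k)) ∧ (∀ j ∈ Fr, ∀ k ∈ Fr, j ≠ k → cA D j k = 0) ∧
  (∀ i j, cA D (ρ i) (ρ j) = cA D i j) ∧ Dep (cA D) o ρ Fr t

instance (j0 : Fin D.rank) (Fr L : List (Fin D.rank)) (t : ℕ) : Decidable (Chk D ρ o j0 Fr L t) := by
  unfold Chk; infer_instance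

/-- All checks, as a Boolean. -/
def chk (j0 : Fin D.rank) (Fr L : List (Fin D.rank)) (t : ℕ) : Bool := decide (Chk D ρ o j0 Fr L t)

variable {D ρ o}

theorem chk_dat {j0 : Fin D.rank} {Fr L : List (Fin D.rank)} {t : ℕ} (c : chk D ρ o j0 Fr L t = true)
    (R : RootSys D) : Dat R.toRS ρ o j0 Fr := by
  replace c := of_decide_eq_true c
  have hA : cA D = R.A := funext₂ fun i j => by rw [cA, ← R.sim_eq, R.cartan_eq, R.wt_sim]
  have hP : ∀ i (r : Fin D.nroots), cP D o i r = par R.toRS (o i) r := fun i r => by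
    simp only [cP, par, R.cartan_eq]
  obtain ⟨c1, c2, c3, c4, c5, c6, c7, c8, c9⟩ := c
  rw [hA] at c6 c7 c8 c9
  refine ⟨fun r => by simpa only [hP] using c1 r r.2, fun w hw h1 h2 h3 => ?_, c5, c6, c7, c8, c9.fn⟩
  have key : ∀ L fx, Stps D ρ o fx L = true → (∀ j ∈ fx, ∃ j' ∈ o j, w (R.sim j) = R.sim j') →
      ∀ j ∈ L, ∃ j' ∈ o j, w (R.sim j) = R.sim j' := fun L => by
    induction L with
    | nil => simp
    | cons k L ih =>
      intro fx h hf
      rw [Stps, Bool.and_eq_true, decide_eq_true_eq] at h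
      have a : ∃ j' ∈ o k, w (R.sim k) = R.sim j' := by
        obtain ⟨j, hj, e⟩ := h.1 _ (w (R.sim k)).2 (fun i => by rw [← R.sim_eq, hP, hP]; exact h1 _ _)
          (by simpa only [R.cartan_eq] using h2 k) fun j hj => (hf j hj).imp fun j' h => ⟨h.1, by
            rw [R.cartan_eq, hA, ← R.pair_sim_left, ← h.2, R.pair_W hw, R.pair_sim_left, R.wt_sim], by
            rw [← R.sim_eq, R.pairing_eq, hA, ← h.2, R.pair_W hw, R.pair_sim_left, R.wt_sim]⟩
        exact ⟨j, hj, Fin.ext (by rw [e, R.sim_eq])⟩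
      rw [List.forall_mem_cons]
      exact ⟨a, ih _ h.2 (List.forall_mem_cons.2 ⟨a, hf⟩)⟩
  refine R.eq_one_of_pos hw fun k _ => ?_
  rcases c3 k with rfl | hk
  · rw [h3]; exact R.pos_sim _
  · obtain ⟨j, -, e⟩ := key L _ c2 (by simpa using ⟨j0, c4, h3⟩) k hk
    rw [e]; exact R.pos_sim _

theorem chkG2 : chk chevG2 id (fun i => [i]) ⟨0, by decide⟩ [⟨0, by decide⟩] (show List (Fin 2) from [1])
    0x1000000 = true := by decide +kernel

theorem chkF4 : chk chevF4 id (fun i => [i]) ⟨0, by decide⟩ [⟨0, by decide⟩] (show List (Fin 4) from [1, 2, 3])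
    0x1010201010002000100000001000000 = true := by decide +kernel

theorem chkE6 : chk chevE6 id (fun i => [i]) ⟨0, by decide⟩ [⟨0, by decide⟩]
    (show List (Fin 6) from [2, 3, 1, 4, 5])
    0x30106010401050102020207030201010402050005020400030301060403000001010108020100000200070003000600010101000209000002000100030a0000 = true := by
  decide +kernel

theorem chkE7 : chk chevE7 id (fun i => [i]) ⟨1, by decide⟩ (show List (Fin 7) from [1, 4, 6])
    (show List (Fin 7) from [3, 2, 0, 4, 5, 6])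
    0xffff0201ffff0101ffff0201ffff01010202ffff0302ffff0301ffff0403ffffffff0102ffff0000ffff0300ffff02000101ffff0203ffff0200ffff0304ffff0101ffff0201ffff0200ffff0302ffffffff0100ffff0000ffff0100ffff00000101ffff0201ffff0200ffff0300ffffffff0100ffff0000ffff0100ffff0000 = true := by
  decide +kernel

theorem chkE8 : chk chevE8 id (fun i => [i]) ⟨0, by decide⟩ [⟨0, by decide⟩]
    (show List (Fin 8) from [2, 3, 1, 4, 5, 6, 7])
    0x2020209030c010103010801040d07010202020b030a010103010a01040b090104020702050e060203030308040d02020503060f06030501040410070504111b0101030a020b020202000902030c08020303010a040b000004020900050c080003010803040d070302020409030c03030604050e0704040005050f060605101c03010601040f050102020207030e01010402051005020400030311060403121a01010108020d000002000700030e06000101010c0209000002000b00030a0a0003010611040105010202120703021319040205000510040003030106040f000001011308020114180200071203000600151701001409000016160100150a0000 = true := by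
  decide +kernel

theorem chk2E6 : chk chevE6 rho2E6 H39.orbE6 ⟨3, by decide⟩ [⟨3, by decide⟩]
    (show List (Fin 6) from [2, 0, 1, 4, 5])
    0x1ff01ffffffffff01ff01ffffffffffffffffff02ff00ffffffffff02ff00ffff01ff00ffffffffff00ff00ffffffffffffffffff01ff00ffffffffff00ff00 = true := by
  decide +kernel

theorem chk3D4 : chk chevD4 rho3D4 H39.orbD4 ⟨1, by decide⟩ [⟨1, by decide⟩]
    (show List (Fin 4) from [0, 2, 3]) 0x1ff00ffffffffffffffffffff00ff00 = true := by
  decide +kernel

variable {F : Type} [Field F] [Fintype F] (h2 : (2 : F) ≠ 0)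
include h2

theorem good_chev (hD : D ∈ [chevG2, chevB2, chevD4, chevF4, chevE6, chevE7, chevE8]) {j0 : Fin D.rank}
    {Fr L : List (Fin D.rank)} {t : ℕ} (c : chk D id (fun i => [i]) j0 Fr L t = true) : Good (D.group F) := by
  obtain ⟨p, hp⟩ := CharP.exists F
  have : NeZero p := ⟨CharP.char_ne_zero_of_finite F p⟩
  obtain ⟨R, E, hE⟩ := exists_isMat hD F
  let T : Tw hE.grp := ⟨.refl _, 1, fun _ => .refl F, fun _ _ => rfl, fun _ _ => rfl, hE.grp_faith, hE.grp_top⟩
  refine (good_tw (T := T) (h3 := hE.grp_R3) hE.center_eq_bot (fun i => ⟨List.nodup_singleton i,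
    fun j => ⟨fun hj => ?_, fun hj => ?_⟩, by simp⟩) (p := p) h2 (chk_dat c R)).congr
    (.ofBijective T.Γ.subtype ⟨Subtype.val_injective, fun g => ⟨⟨g, rfl⟩, rfl⟩⟩)
  · rw [List.mem_singleton.1 hj]; exact T.S.mem_orb_self i
  · exact T.S.orb_induction (P := fun j => j ∈ [i]) (by simp) (fun j hj => hj) hj

theorem good_2E6 {q : ℕ} (hq : IsPrimePow q) (hK : Fintype.card F = q ^ 2) : Good (twistedE6 F q) := by
  obtain ⟨p, hp⟩ := CharP.exists F
  have : NeZero p := ⟨CharP.char_ne_zero_of_finite F p⟩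
  obtain ⟨R, E, hE, T, hT, e⟩ := exists_E6 hq hK
  rw [e]
  exact (good_tw (h3 := hT.h3) hT.hz hT.orth (p := p) h2 (hT.hρ ▸ chk_dat chk2E6 R)).congr
    (T.Γ.equivMapOfInjective _ (subtype_injective _))

theorem good_3D4 {q : ℕ} (hq : IsPrimePow q) (hK : Fintype.card F = q ^ 3) : Good (twistedD4 F q) := by
  obtain ⟨p, hp⟩ := CharP.exists F
  have : NeZero p := ⟨CharP.char_ne_zero_of_finite F p⟩
  obtain ⟨R, E, hE, T, hT, e⟩ := exists_D4 hq hK
  rw [e]
  exact (good_tw (h3 := hT.h3) hT.hz hT.orth (p := p) h2 (hT.hρ ▸ chk_dat chk3D4 R)).congr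
    (T.Γ.equivMapOfInjective _ (subtype_injective _))

end H23.CZ
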