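import Cfsg.Agent.Lib.Chz.Defs
import Cfsg.Agent.Lib.OdEv.Lin

/-! Linear, symplectic and unitary groups in odd characteristic are good. -/

set_option autoImplicit false

namespace H23.CZ

open Cfsg Subgroup H6.OE H11.KI Matrix Module
open scoped commutatorElement MatrixGroups

namespace Lin

theorem exists_q8 {L : Type} [Field L] [Finite L] (h2 : (2 : L) ≠ 0) : ∃ x y : SL(2, L),
    x ∈ commutator SL(2, L) ∧ y ∈ commutator SL(2, L) ∧ x * x = -1 ∧ y * y = -1 ∧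
      x * y = -1 * (y * x) := by
  obtain ⟨s, t, e⟩ := H28.exists_binary_repr h2 one_ne_zero one_ne_zero (-1 : L)
  obtain ⟨h, hh⟩ : ∃ h : L, 2 * h = 1 := ⟨2⁻¹, mul_inv_cancel₀ h2⟩
  let x : SL(2, L) := ⟨!![0, 1; -1, 0], by simp [det_fin_two]⟩
  let y : SL(2, L) := ⟨!![s, t; t, -s], by simp only [det_fin_two_of]; linear_combination -e⟩
  let ω : SL(2, L) := ⟨!![h * (1 + s + t), h * (1 + t - s); h * (t - s - 1), h * (1 - s - t)], by
    simp only [det_fin_two_of]; linear_combination (-2 * h ^ 2) * e + (2 * h + 1) * hh⟩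
  have a1 : ω * x = y * ω := Subtype.ext (by
    change ω.1 * x.1 = y.1 * ω.1
    ext i j
    fin_cases i <;> fin_cases j <;> simp [x, y, ω, mul_apply, Fin.sum_univ_two] <;>
      first | ring1 | linear_combination h * e | linear_combination -h * e)
  have a2 : ω * y = x * y * ω := Subtype.ext (by
    change ω.1 * y.1 = x.1 * y.1 * ω.1
    ext i j
    fin_cases i <;> fin_cases j <;> simp [x, y, ω, mul_apply, Fin.sum_univ_two] <;>
      first | ring1 | linear_combination h * e | linear_combination -h * e | linear_combination 2 * h * e)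
  have hx : x ∈ commutator SL(2, L) := by
    have : ⁅ω, y⁆ = x := by rw [commutatorElement_def, a2]; group
    exact this ▸ commutator_mem_commutator (mem_top _) (mem_top _)
  refine ⟨x, y, hx, ?_, Subtype.ext (show x.1 * x.1 = -1 from ?_),
    Subtype.ext (show y.1 * y.1 = -1 from ?_), Subtype.ext (show x.1 * y.1 = -1 * (y.1 * x.1) from ?_)⟩
  · have := (inferInstance : (commutator SL(2, L)).Normal).conj_mem x hx ω
    rwa [a1, mul_inv_cancel_right] at this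
  all_goals
    ext i j
    fin_cases i <;> fin_cases j <;> simp [x, y, mul_apply, Fin.sum_univ_two] <;>
      first | ring1 | linear_combination e

variable {K V W W' : Type*} [Field K] [AddCommGroup V] [Module K V] [AddCommGroup W] [Module K W]
  [AddCommGroup W'] [Module K W']

/-- an irreducible quaternion subgroup of the derived group -/
def Q8 (Γ : Subgroup (W ≃ₗ[K] W)) : Prop :=
  ∃ A, Irr A Γ ∧ .neg K ∈ ⁅A, A⁆ ∧ ∃ a ∈ A, a * a = .neg K

/-- involutions centralising a suitable `2`-subgroup are squares up to sign -/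
def Fr (Γ : Subgroup (W ≃ₗ[K] W)) : Prop :=
  ∃ A ≤ ⁅Γ, Γ⁆, IsPGroup 2 A ∧ ∀ u, u * u = 1 → (∀ a ∈ A, a * u = u * a) →
    ∃ x ∈ A, u = x * x ∨ u = .neg K * (x * x)

theorem neg_neg' : (LinearEquiv.neg K : W ≃ₗ[K] W) * .neg K = 1 := by ext; simp

theorem pm_one {u : W ≃ₗ[K] W} (h : u ∈ Sc K W) (hu : u * u = 1) : u = 1 ∨ u = .neg K := by
  obtain ⟨c, hc⟩ := mem_Sc.1 h
  rcases subsingleton_or_nontrivial W with _ | _
  · exact Or.inl (LinearEquiv.ext fun _ => Subsingleton.elim _ _)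
  have : c * c = 1 := eq_one_of_smul (W := W) fun x => by
    rw [mul_smul, ← hc, ← hc, ← LinearEquiv.mul_apply, hu, one_smul]; rfl
  rcases mul_self_eq_one_iff.1 this with rfl | rfl
  · exact Or.inl (LinearEquiv.ext fun v => by simp [hc])
  · exact Or.inr (LinearEquiv.ext fun v => by simp [hc])

theorem fr_one [FiniteDimensional K W] (hW : finrank K W ≤ 1) (Γ : Subgroup (W ≃ₗ[K] W)) : Fr Γ :=
  ⟨⊥, bot_le, .of_bot, fun u hu _ => ⟨1, one_mem _, by
    simpa using pm_one (mem_Sc.2 (exists_smul_of_le_one hW u.toLinearMap)) hu⟩⟩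

theorem q8_of {L : Type} [Field L] [Finite L] {Γ : Subgroup (W ≃ₗ[K] W)} (s : S2 L Γ)
    (h2 : (2 : K) ≠ 0) (h2' : (2 : L) ≠ 0) (hW : finrank K W = 2) : Q8 Γ := by
  obtain ⟨ψ, -, h1, -, h5⟩ := s
  obtain ⟨x, y, hx, hy, xx, yy, xy⟩ := exists_q8 h2'
  have p : ∀ {x : SL(2, L)}, x * x = -1 → IsPGroup 2 (zpowers x) := fun {x} h =>
    H70.isPGroup_zpowers (k := 2) (by rw [show 2 ^ 2 = 2 * 2 from rfl, pow_mul, sq x, h]; simp)
  have xi : x⁻¹ = -x := inv_eq_of_mul_eq_one_right (by rw [mul_neg, xx, neg_neg])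
  have yx : y * x * y⁻¹ = x⁻¹ := by
    rw [mul_inv_eq_iff_eq_mul, xi, neg_mul, xy]; simp
  have n : zpowers y ≤ normalizer (zpowers x : Set SL(2, L)) := zpowers_le.2
    (mem_normalizer_fintype fun g ⟨k, hk⟩ => ⟨-k, by
      change x ^ (-k) = _
      rw [← hk, ← conj_zpow, yx, _root_.inv_zpow']⟩)
  have m1 : x ∈ zpowers x ⊔ zpowers y := mem_sup_left (mem_zpowers x)
  have m2 : y ∈ zpowers x ⊔ zpowers y := mem_sup_right (mem_zpowers y)
  refine ⟨(zpowers x ⊔ zpowers y).map ψ, ⟨(map_mono (sup_le (zpowers_le.2 hx)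
    (zpowers_le.2 hy))).trans (map_comm_le ψ h1), ((p xx).to_sup_of_normal_left' (p yy) n).map _,
    fun u hu => mem_Sc_two h2 hW ?_ (hu _ ⟨_, m1, rfl⟩) (hu _ ⟨_, m2, rfl⟩)⟩, ?_,
    ψ x, ⟨_, m1, rfl⟩, by rw [← map_mul, xx, h5]⟩
  · rw [← h5, ← map_mul, ← map_mul, ← map_mul, xy]
  · have : ⁅x, y⁆ = -1 := by rw [commutatorElement_def, xy]; simp [mul_assoc]
    rw [← h5, ← this, map_commutatorElement]
    exact commutator_mem_commutator ⟨_, m1, rfl⟩ ⟨_, m2, rfl⟩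

theorem isP_prod {A₁ : Subgroup (W ≃ₗ[K] W)} {A₂ : Subgroup (W' ≃ₗ[K] W')} (h1 : IsPGroup 2 A₁)
    (h3 : IsPGroup 2 A₂) : IsPGroup 2 (A₁.prod A₂) := H70.isPGroup_iff_mem.2 fun x hx => by
  obtain ⟨a, ha⟩ := H70.isPGroup_iff_mem.1 h1 _ hx.1
  obtain ⟨b, hb⟩ := H70.isPGroup_iff_mem.1 h3 _ hx.2
  exact ⟨a + b, Prod.ext (by rw [Prod.pow_fst, pow_add, pow_mul, ha, one_pow]; rfl)
    (by rw [Prod.pow_snd, pow_add, pow_mul', hb, one_pow]; rfl)⟩

variable {e : (W × W') ≃ₗ[K] V} {Γ : Subgroup (V ≃ₗ[K] V)} {Γ₁ : Subgroup (W ≃ₗ[K] W)}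
  {Γ₂ : Subgroup (W' ≃ₗ[K] W')} {G Y : Type*} [Group G] [Group Y]

theorem blk_neg : blk e (.neg K, .neg K) = .neg K := LinearEquiv.ext fun v => by
  obtain ⟨⟨x, y⟩, rfl⟩ := e.surjective v
  rw [blk_apply, LinearEquiv.neg_apply, LinearEquiv.neg_apply, LinearEquiv.neg_apply, ← map_neg,
    Prod.neg_mk]

theorem step (h2 : (2 : K) ≠ 0) (hΓ : Spl e Γ Γ₁ Γ₂) (q : Q8 Γ₁) (f : Fr Γ₂) : Fr Γ := by
  obtain ⟨A₁, h1, -, a, ha, aa⟩ := q
  obtain ⟨A₂, l2, p2, f⟩ := f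
  refine ⟨(A₁.prod A₂).map (blk e), (map_mono (prod_mono h1.1 l2)).trans ?_,
    (isP_prod h1.2.1 p2).map _, fun u hu hc => ?_⟩
  · rw [← commutator_prod_prod, map_commutator]
    have : (Γ₁.prod Γ₂).map (blk e) ≤ Γ := map_le_iff_le_comap.2 fun g hg => (hΓ g).2 hg
    exact commutator_mono this this
  obtain ⟨⟨u1, u2⟩, rfl⟩ := mem_range_blk e h2 (g := u)
    (hc _ ⟨(_, 1), ⟨aa ▸ mul_mem ha ha, one_mem _⟩, rfl⟩).symm
  have k : ∀ x ∈ A₁.prod A₂, x * (u1, u2) = (u1, u2) * x := fun x hx =>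
    blk_inj e (by rw [map_mul, map_mul, hc _ ⟨x, hx, rfl⟩])
  have hu' : (u1, u2) * (u1, u2) = 1 := blk_inj e (by rw [map_mul, hu, map_one])
  obtain ⟨x, hx, k2⟩ := f u2 (congrArg Prod.snd hu') fun y hy =>
    congrArg Prod.snd (k (1, y) ⟨one_mem _, hy⟩)
  have k1 := pm_one (h1.2.2 (show u1 ∈ _ from fun y hy =>
    congrArg Prod.fst (k (y, 1) ⟨hy, one_mem _⟩))) (congrArg Prod.fst hu')
  have m1 : blk e (1, x) ∈ (A₁.prod A₂).map (blk e) := ⟨_, ⟨one_mem _, hx⟩, rfl⟩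
  have m2 : blk e (a, x) ∈ (A₁.prod A₂).map (blk e) := ⟨_, ⟨ha, hx⟩, rfl⟩
  rcases k1 with rfl | rfl <;> rcases k2 with rfl | rfl
  · exact ⟨_, m1, .inl (by rw [← map_mul, Prod.mk_mul_mk, mul_one])⟩
  · exact ⟨_, m2, .inr (by
      rw [← map_mul, ← blk_neg (e := e), ← map_mul, Prod.mk_mul_mk, Prod.mk_mul_mk, aa, neg_neg'])⟩
  · exact ⟨_, m2, .inl (by rw [← map_mul, Prod.mk_mul_mk, aa])⟩
  · exact ⟨_, m1, .inr (by
      rw [← map_mul, ← blk_neg (e := e), ← map_mul, Prod.mk_mul_mk, Prod.mk_mul_mk, mul_one, mul_one])⟩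

theorem top [Nontrivial W] [Nontrivial W'] (c : Cov Γ G Y) (h2 : (2 : K) ≠ 0) (hΓ : Spl e Γ Γ₁ Γ₂)
    (q : Q8 Γ₁) (f : Fr Γ₂) : Good Y := by
  obtain ⟨A₁, h1, hn, a, ha, aa⟩ := q
  obtain ⟨A₂, l2, p2, f⟩ := f
  let Q := ((A₁.prod A₂).map (blk e)).comap c.ρ
  have q1 : (A₁.prod A₂).map (blk e) ≤ c.ρ.range :=
    (map_mono (prod_mono h1.1 l2)).trans (c.prod_le hΓ)
  have q2 : Q.map c.ρ = _ := map_comap_eq_self q1
  refine good_of_cov c.π c.surj Q (((isP_prod h1.2.1 p2).map _).comap_of_injective _ c.inj)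
    fun u hu hc => ?_
  have q4 : Q ≤ (centralizer {c.π u}).comap c.π := fun x hx => mem_centralizer_singleton_iff.2 (by
    have := hc x hx
    rwa [map_mul, map_mul, map_mul, map_inv, map_inv, mul_inv_eq_one, mul_inv_eq_iff_eq_mul] at this)
  obtain ⟨t, t1, ht⟩ : blk e (.neg K, 1) ∈ ⁅Q, Q⁆.map c.ρ := by
    rw [map_commutator, q2, ← map_commutator, commutator_prod_prod]
    exact ⟨_, ⟨hn, one_mem _⟩, rfl⟩
  obtain ⟨θ, hθ⟩ := c.exists_θ h2 hΓ ht
  obtain ⟨⟨u1, u2⟩, q5⟩ : ∃ x, c.ρ u = blk e x := ⟨_, hθ ⟨u, mem_centralizer_singleton_iff.2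
    (mem_centralizer_singleton_iff.1 (comm_le_cent c.cen q4 t1)).symm⟩⟩
  have q6 : ∀ x ∈ A₁.prod A₂, blk e ⁅x, (u1, u2)⁆ ∈ Sc K V := fun x hx => by
    obtain ⟨y, hy⟩ := q1 ⟨x, hx, rfl⟩
    rw [map_commutatorElement, ← hy, ← q5, ← map_commutatorElement, ← c.ker]
    exact hc y (show c.ρ y ∈ (A₁.prod A₂).map (blk e) from ⟨x, hx, hy.symm⟩)
  obtain ⟨l, rfl⟩ := h1.2.2 (show u1 ∈ _ from fun x hx => commutatorElement_eq_one_iff_mul_comm.1
    (blk_sc_left e (by simpa [commutatorElement_def] using q6 (x, 1) ⟨hx, one_mem _⟩)))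
  have c2 : ∀ x ∈ A₂, x * u2 = u2 * x := fun x hx => commutatorElement_eq_one_iff_mul_comm.1
    (blk_sc_right e (by simpa [commutatorElement_def] using q6 (1, x) ⟨one_mem _, hx⟩))
  obtain ⟨d, d1, d2⟩ := (blk_sc e (g := (scHom K W l, u2) * (scHom K W l, u2))).1 (by
    rw [map_mul, ← q5, ← map_mul, ← c.ker, ← sq, hu])
  have q8 : (l : K) * l = d := eq_one_of_smul (W := W) fun x => by rw [← d1, mul_smul]; rfl
  have z := mem_center_iff.1 (Sc_le_center (K := K) (V := W') ⟨l⁻¹, rfl⟩)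
  obtain ⟨x, hx, k⟩ := f (scHom K W' l⁻¹ * u2) (by
    rw [mul_assoc, ← mul_assoc u2, z, mul_assoc, ← mul_assoc, ← map_mul]
    refine LinearEquiv.ext fun v => ?_
    rw [LinearEquiv.mul_apply, show (u2 * u2) v = _ from d2 v, ← q8, scHom_apply, ← mul_smul,
      ← Units.val_mul, ← Units.val_mul, ← mul_inv, inv_mul_cancel]
    exact one_smul K v) fun y hy => by rw [← mul_assoc, z, mul_assoc, c2 y hy, mul_assoc]
  have fin : ∀ b ∈ A₁, ∀ m : K, (∀ v, (b * b) v = m • (l : K) • v) →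
      (∀ v, (x * x) v = m • u2 v) → ∃ v ∈ Sq u, c.π v = c.π u := fun b hb m m1 m2 => by
    obtain ⟨y, hy⟩ := q1 ⟨(b, x), ⟨hb, hx⟩, rfl⟩
    refine ⟨y * y, mul_self_mem (c.inj ?_), ?_⟩
    · rw [map_mul, map_mul, hy, q5, ← map_mul, ← map_mul, Prod.mk_mul_mk, Prod.mk_mul_mk, c2 x hx,
        mem_center_iff.1 (Sc_le_center (K := K) (V := W) ⟨l, rfl⟩) b]
    · rw [← mul_inv_eq_one, ← map_inv, ← map_mul, c.ker, map_mul, map_inv, map_mul, hy, q5,
        ← map_inv, ← map_mul, ← map_mul, blk_sc]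
      refine ⟨m, fun v => ?_, fun v => ?_⟩
      · change (b * b) ((scHom K W l)⁻¹ v) = _
        rw [m1, ← scHom_apply, ← LinearEquiv.mul_apply, mul_inv_cancel]; rfl
      · change (x * x) (u2⁻¹ v) = _
        rw [m2, ← LinearEquiv.mul_apply, mul_inv_cancel]; rfl
  rcases k with k | k
  · exact fin 1 (one_mem _) (l⁻¹ : Kˣ) (fun v => by simp) fun v => by rw [← k]; rfl
  · refine fin a ha (-(l⁻¹ : Kˣ)) (fun v => by simp [aa]) fun v => ?_
    have := LinearEquiv.congr_fun k v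
    rw [LinearEquiv.mul_apply, LinearEquiv.mul_apply, scHom_apply, LinearEquiv.neg_apply] at this
    rw [neg_smul, this, neg_neg]

end Lin

open Lin

variable {F : Type} [Field F] [Fintype F] {p : ℕ} [CharP F p]

theorem good_PSL (hp : p.Prime) (h2 : (2 : F) ≠ 0) {n : ℕ} (hn : 3 ≤ n) :
    Good (Matrix.ProjectiveSpecialLinearGroup (Fin n) F) := by
  obtain ⟨c, -⟩ := covSL (F := F) hp n
  obtain ⟨d, hd⟩ := covSL (F := F) hp 2
  have q := q8_of (d.s2 h2 h2 (.refl _) (hd even_two)) h2 h2 (by simp)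
  have f : ∀ k, Fr (⊤ : Subgroup ((Fin k → F) ≃ₗ[F] (Fin k → F))) := fun k => by
    induction k using Nat.twoStepInduction with
    | zero => exact fr_one (by simp) _
    | one => exact fr_one (by simp) _
    | more k ih _ => exact (splSL (K := F) (add_comm 2 k)).elim fun e he => step h2 he q ih
  obtain ⟨k, hk⟩ : ∃ k, 2 + (k + 1) = n := ⟨n - 3, by omega⟩
  obtain ⟨e, he⟩ := splSL (K := F) hk
  exact top c h2 he q (f _)

theorem good_PSp (h2 : (2 : F) ≠ 0) {m : ℕ} (hm : 2 ≤ m) : Good (PSp m F) := by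
  obtain ⟨c, -⟩ := covSp (F := F) m
  obtain ⟨d, hd⟩ := covSp (F := F) 1
  have q := q8_of (d.s2 h2 h2 (spOne F) hd) h2 h2 (by simp)
  have f : ∀ k, Fr (Iso (H11.Sp.bilin k F)) := fun k => by
    induction k with
    | zero => exact fr_one (by simp) _
    | succ k ih => exact (splSp (K := F) (add_comm 1 k)).elim fun e he => step h2 he q ih
  obtain ⟨k, hk⟩ : ∃ k, 1 + (k + 1) = m := ⟨m - 2, by omega⟩
  obtain ⟨e, he⟩ := splSp (K := F) hk
  exact top c h2 he q (f _)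

theorem good_PSU (hp : p.Prime) (h2 : (2 : F) ≠ 0) {q : ℕ} [H11.U.IsSq F q] {n : ℕ} (hn : 3 ≤ n) :
    Good (PSU n F q) := by
  obtain ⟨c, -⟩ := covSU (F := F) (q := q) hp (show 2 ≤ n by omega)
  obtain ⟨d, hd⟩ := covSU (F := F) (q := q) hp le_rfl
  have h2' : (2 : H11.U.fixedField F q) ≠ 0 := fun h => h2 (congrArg Subtype.val h)
  have r := su_two.elim fun f => q8_of (d.s2 h2 h2' f (hd even_two)) h2 h2' (by simp)
  have f : ∀ k, Fr (Iso (H11.U.sesq k F q)) := fun k => by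
    induction k using Nat.twoStepInduction with
    | zero => exact fr_one (by simp) _
    | one => exact fr_one (by simp) _
    | more k ih _ => exact (splSU (F := F) (q := q) (add_comm 2 k)).elim fun e he => step h2 he r ih
  obtain ⟨k, hk⟩ : ∃ k, 2 + (k + 1) = n := ⟨n - 3, by omega⟩
  obtain ⟨e, he⟩ := splSU (F := F) (q := q) hk
  exact top c h2 he r (f _)

end H23.CZ
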