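import Cfsg.Agent.Lib.Chz.Defs
import Cfsg.Agent.Lib.Tech58.Extremal
import Cfsg.Agent.Lib.Inv73.Transfer
import Cfsg.Prelude.Def_TwoFusion

/-! A `2`-central involution whose centraliser is the product of it and a simple group. -/

set_option autoImplicit false

namespace H23.CZ

open Cfsg Subgroup

universe u

variable {G : Type u} [Group G] {t : G} {F : Subgroup G}

/-- The hypothesis on the involution. -/
structure Hy (t : G) (F : Subgroup G) : Prop where
  ord : orderOf t = 2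
  dp : IsInternalDirectProduct (zpowers t) F (centralizer {t})
  simple : IsSimpleGroup F
  na : ¬ IsMulCommutative F
  odd : ¬ 2 ∣ (centralizer ({t} : Set G)).index

namespace Hy

variable (h : Hy t F)
include h

theorem tt : t * t = 1 := by rw [← sq, ← h.ord, pow_orderOf_eq_one]

theorem ne : t ≠ 1 := fun e => by simpa [e] using h.ord

theorem nm : t ∉ F := fun e => h.ne (mem_bot.1 (h.dp.2.2.2.1 ▸ mem_inf.2 ⟨mem_zpowers t, e⟩))

theorem cm {f : G} (hf : f ∈ F) : t * f = f * t := h.dp.2.2.1 t (mem_zpowers t) f hf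

theorem mem {g : G} (hg : g ∈ centralizer {t}) : g ∈ F ∨ t * g ∈ F := by
  rw [← h.dp.2.2.2.2, sup_eq_closure] at hg
  have k : ∀ g, t * g ∈ F → t * g = g * t := fun g hg => by
    have := h.cm hg
    rwa [mul_assoc, mul_right_inj] at this
  induction hg using closure_induction with
  | mem a ha =>
    rcases ha with ⟨k, rfl⟩ | ha
    · have : t ^ 2 = 1 := by rw [sq, h.tt]
      rcases Int.even_or_odd' k with ⟨m, rfl | rfl⟩
      · left; simp [zpow_mul, this]
      · right; simp [zpow_add, zpow_mul, this, h.tt]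
    · exact .inl ha
  | one => exact .inl (one_mem _)
  | mul a b _ _ ha hb =>
    rcases ha with ha | ha <;> rcases hb with hb | hb
    · exact .inl (mul_mem ha hb)
    · exact .inr (by rw [← mul_assoc, h.cm ha, mul_assoc]; exact mul_mem ha hb)
    · exact .inr (by rw [← mul_assoc]; exact mul_mem ha hb)
    · have := mul_mem ha hb
      rw [k a ha, mul_assoc, ← mul_assoc t, h.tt, one_mul] at this
      exact .inl this
  | inv a _ ha =>
    refine ha.imp inv_mem fun ha => ?_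
    have := inv_mem ha
    rwa [k a ha, mul_inv_rev, inv_eq_of_mul_eq_one_left h.tt] at this

theorem sq_mem' {g : G} (hg : g ∈ centralizer {t}) : g ^ 2 ∈ F := by
  refine (h.mem hg).elim (pow_mem · 2) fun e => ?_
  have := pow_mem e 2
  rwa [(show Commute t g from (mem_centralizer_singleton_iff.1 hg).symm).mul_pow, sq t, h.tt, one_mul] at this

theorem rel {X : Subgroup G} (h1 : X ≤ centralizer {t}) (h2 : t ∈ X) : F.relIndex X = 2 :=
  index_eq_two_iff_exists_notMem_and'.2 ⟨⟨t, h2⟩, h.nm, fun b => (h.mem (h1 b.2)).symm⟩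

theorem cen {f : G} (hf : f ∈ F) (e : ∀ y ∈ F, f * y = y * f) : f = 1 := by
  have := h.simple
  rcases IsSimpleGroup.eq_bot_or_eq_top_of_normal (center F) inferInstance with c | c
  · exact congrArg Subtype.val (mem_bot.1 (c ▸ mem_center_iff.2 fun y => Subtype.ext (e y y.2).symm :
      (⟨f, hf⟩ : F) ∈ ⊥))
  · exact (h.na ⟨⟨fun a b => mem_center_iff.1 (c ▸ mem_top b) a⟩⟩).elim

theorem dich (M : Subgroup G) [M.Normal] : F ≤ M ∨ ∀ f ∈ F, f ∈ M → f = 1 := by
  have := h.simple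
  rcases IsSimpleGroup.eq_bot_or_eq_top_of_normal (M.subgroupOf F) inferInstance with c | c
  · exact .inr fun f h1 h2 => congrArg Subtype.val (mem_bot.1 (c ▸ h2 : (⟨f, h1⟩ : F) ∈ ⊥))
  · exact .inl (subgroupOf_eq_top.1 c)

theorem not_sq : ¬ ∀ f ∈ F, f ^ 2 = 1 := fun e => h.na ⟨⟨fun a b =>
  (Commute.of_orderOf_dvd_two (fun x => orderOf_dvd_of_pow_eq_one (Subtype.ext (e x x.2))) a b).eq⟩⟩

theorem le_of {M : Subgroup G} (h1 : t ∈ M) (h2 : F ≤ M) : centralizer {t} ≤ M :=
  h.dp.2.2.2.2 ▸ sup_le (zpowers_le.2 h1) h2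

theorem no_two (e : ∀ H : Subgroup G, H.index = 2 → t ∈ H) (N : Subgroup G) : N.index ≠ 2 := fun hN => by
  have := normal_of_index_eq_two hN
  rcases h.dich N with c | c
  · exact h.odd (hN ▸ index_dvd_of_le (h.le_of (e N hN) c))
  · exact h.not_sq fun f hf => c _ (pow_mem hf 2) (sq_mem_of_index_two hN f)

variable [Finite G]

theorem exists_S : ∃ S : Sylow 2 G, t ∈ (S : Subgroup G) ∧ (S : Subgroup G) ≤ centralizer {t} := by
  have tc : t ∈ centralizer ({t} : Set G) := mem_centralizer_singleton_iff.2 rfl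
  have : IsPGroup 2 (zpowers (⟨t, tc⟩ : centralizer ({t} : Set G))) := .of_card (n := 1) (by
    rw [Nat.card_zpowers, ← orderOf_coe, h.ord]; rfl)
  obtain ⟨Q, hQ⟩ := this.exists_le_sylow
  have hQ' : ¬ 2 ∣ (Q.1.map (centralizer ({t} : Set G)).subtype).index := by
    rw [index_map_subtype]
    exact fun e => ((Nat.Prime.dvd_mul Nat.prime_two).1 e).elim Q.not_dvd_index h.odd
  exact ⟨(Q.isPGroup'.map _).toSylow hQ', ⟨_, hQ (mem_zpowers _), rfl⟩, map_subtype_le _⟩

theorem fuse (hG : ∀ N : Subgroup G, N.index ≠ 2) : ∃ (g : G) (e : g⁻¹ * t * g ∈ F),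
    ¬ 2 ∣ (centralizer ({⟨_, e⟩} : Set F)).index := by
  obtain ⟨S, h1, h2⟩ := h.exists_S
  have r := h.rel h2 h1
  obtain ⟨g, a, b, c⟩ := H58.exists_extremal_conj hG S (H73.signHom _ r) (-1)
    (fun s _ => Int.units_eq_one_or _) (y := t) (by rw [sq, h.tt]) S S.isPGroup' h1 h2
  have e : g⁻¹ * t * g ∈ F := (H73.signHom_eq_one_iff r).1 b
  refine ⟨g, e, fun d => ?_⟩
  have n : g⁻¹ ∈ normalizer ((S : Subgroup G) : Set G) := mem_normalizer_fintype fun x hx => by
    rw [inv_inv]; exact c x hx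
  replace n := inv_mem n
  rw [inv_inv] at n
  have l : (S : Subgroup G).subgroupOf F ≤ centralizer {⟨_, e⟩} := fun x hx =>
    mem_centralizer_singleton_iff.2 (Subtype.ext (by
      have := mem_centralizer_singleton_iff.1 (h2 ((mem_normalizer_iff.1 n x).1 hx))
      change x * (g⁻¹ * t * g) = g⁻¹ * t * g * x
      rw [← mul_left_inj g⁻¹, ← mul_right_inj g]
      simpa [mul_assoc] using this))
  have d1 : 2 ∣ (S : Subgroup G).relIndex F := d.trans (index_dvd_of_le l)
  have e1 := relIndex_mul_relIndex _ _ _ (inf_le_left : (S : Subgroup G) ⊓ F ≤ S) h2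
  have e2 := relIndex_mul_relIndex _ _ _ (inf_le_right : (S : Subgroup G) ⊓ F ≤ F) h.dp.2.1
  rw [inf_relIndex_left, r] at e1
  rw [inf_relIndex_right, h.rel le_rfl (h2 h1), ← e1, mul_comm, Nat.mul_right_inj two_ne_zero] at e2
  exact S.not_dvd_index ((e2 ▸ d1).trans (relIndex_dvd_index_of_le h2))

theorem not_good (hG : ∀ N : Subgroup G, N.index ≠ 2) : ¬ Good F := fun k => by
  obtain ⟨g, e, o⟩ := h.fuse hG
  have := k.mem (u := ⟨_, e⟩) (Subtype.ext (by
    change (g⁻¹ * t * g) ^ 2 = 1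
    rw [sq, show g⁻¹ * t * g * (g⁻¹ * t * g) = g⁻¹ * (t * t) * g by group, h.tt]; simp)) o
  have l : Sq (⟨_, e⟩ : F) ≤ (F.comap (MulAut.conj g : G →* G)).subgroupOf F := (closure_le _).2 (by
    rintro _ ⟨x, hx, rfl⟩
    change MulAut.conj g ((x : G) ^ 2) ∈ F
    rw [map_pow]
    refine h.sq_mem' (mem_centralizer_singleton_iff.2 ?_)
    simpa [mul_assoc] using congrArg (fun y : F => g * y * g⁻¹) hx.eq)
  have := l this
  exact h.nm (by simpa [mem_subgroupOf, mul_assoc] using this)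

theorem le_normal (hG : ∀ N : Subgroup G, N.index ≠ 2) (M : Subgroup G) [hM : M.Normal] (h0 : M ≠ ⊥) :
    centralizer {t} ≤ M := by
  obtain ⟨g, e, -⟩ := h.fuse hG
  have u1 : g⁻¹ * t * g ≠ 1 := fun k => h.ne (by simpa [mul_assoc] using congrArg (g * · * g⁻¹) k)
  rcases h.dich M with c | c
  · exact h.le_of (by simpa [mul_assoc] using hM.conj_mem _ (c e) g) c
  exfalso
  have a : ∀ x ∈ M, x ∈ centralizer {t} → x = 1 := fun x h1 h2 => (h.mem h2).elim (c x · h1) fun f => by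
    have := h.cen f fun y hy => by
      have k := c _ (mul_mem (mul_mem (mul_mem f hy) (inv_mem f)) (inv_mem hy)) (by
        have : t * x * y * (t * x)⁻¹ * y⁻¹ = x * (y * x⁻¹ * y⁻¹) := by
          rw [← mem_centralizer_singleton_iff.1 h2, mul_assoc x, h.cm hy]; group
        rw [this]
        exact mul_mem h1 (hM.conj_mem _ (inv_mem h1) y))
      rwa [mul_inv_eq_one, mul_inv_eq_iff_eq_mul] at k
    rw [← eq_inv_iff_mul_eq_one] at this
    exact (u1 (c _ e (by simpa using hM.conj_mem _ (this ▸ inv_mem h1) g⁻¹))).elim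
  have b : ∀ x ∈ M, t * x * t⁻¹ = x⁻¹ := fun x hx => congrArg Subtype.val (congrFun
    (MonoidHom.FixedPointFree.coe_eq_inv_of_involutive (φ := MulAut.conjNormal (H := M) t)
      (fun y hy => Subtype.ext (a y y.2 (mem_centralizer_singleton_iff.2 (by
        have := congrArg Subtype.val hy
        rw [MulAut.conjNormal_apply, mul_inv_eq_iff_eq_mul] at this
        exact this.symm)))) fun y => by
      rw [← MulAut.mul_apply, ← map_mul, h.tt, map_one, MulAut.one_apply]) ⟨x, hx⟩)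
  have b' : ∀ k, ∀ x ∈ M, k * t * k⁻¹ * x * (k * t * k⁻¹)⁻¹ = x⁻¹ := fun k x hx => by
    have := congrArg (k * · * k⁻¹) (b _ (hM.conj_mem _ hx k⁻¹))
    simpa [mul_assoc] using this
  rcases h.dich (centralizer (M : Set G)) with d | d
  · refine h0 (eq_bot_iff.2 fun x hx => a x hx (mem_centralizer_singleton_iff.2 ?_))
    have := b' g⁻¹ x hx
    rw [inv_inv, ← d e x hx, mul_inv_cancel_right] at this
    rw [← mul_inv_eq_iff_eq_mul.1 ((b x hx).trans this.symm)]
  · refine u1 (h.cen e fun y hy => ?_)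
    have := d _ (mul_mem (mul_mem (mul_mem hy e) (inv_mem hy)) (inv_mem e)) fun x hx => by
      have h1 := b' (y * g⁻¹) _ (inv_mem hx)
      have h2 := b' g⁻¹ _ hx
      rw [mul_inv_eq_iff_eq_mul] at h1 h2
      rw [show y * (g⁻¹ * t * g) * y⁻¹ = y * g⁻¹ * t * (y * g⁻¹)⁻¹ by group, ← mul_assoc, ← inv_inv x, ← h1,
        mul_assoc, mul_assoc _ (g⁻¹ * t * g)⁻¹, mul_right_inj, ← mul_inv_rev, ← mul_inv_rev, inv_inj]
      simpa using h2
    rw [mul_inv_eq_one, mul_inv_eq_iff_eq_mul] at this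
    exact this.symm

omit [Finite G] in
theorem sub {N : Subgroup G} (hN : centralizer {t} ≤ N) (ht : t ∈ N) : Hy (⟨t, ht⟩ : N) (F.subgroupOf N) := by
  have e := subgroupOfEquivOfLe (h.dp.2.1.trans hN)
  have c : centralizer ({⟨t, ht⟩} : Set N) = (centralizer {t}).subgroupOf N := by
    ext x; simp [mem_subgroupOf, mem_centralizer_singleton_iff, Subtype.ext_iff]
  have z : zpowers (⟨t, ht⟩ : N) = (zpowers t).subgroupOf N := by
    ext x; simp [mem_subgroupOf, mem_zpowers_iff, Subtype.ext_iff]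
  have := h.simple
  refine ⟨by rw [← orderOf_coe, h.ord], ?_, e.isSimpleGroup, fun k => h.na ⟨⟨fun a b => e.symm.injective (by
    rw [map_mul, map_mul, k.1.1])⟩⟩, fun k => h.odd ((c ▸ k).trans (relIndex_dvd_index_of_le hN))⟩
  rw [c, z]
  exact ⟨comap_mono h.dp.1, comap_mono h.dp.2.1, fun a ha b hb => Subtype.ext (h.dp.2.2.1 a ha b hb), by
    rw [subgroupOf, subgroupOf, ← comap_inf, h.dp.2.2.2.1]; simp, by
    rw [← subgroupOf_sup (h.dp.1.trans hN) (h.dp.2.1.trans hN), h.dp.2.2.2.2]⟩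

theorem red (hG : ∀ N : Subgroup G, N.index ≠ 2) : ∃ (X : Type u) (_ : Group X) (_ : Finite X) (s : X)
    (E : Subgroup X), IsSimpleGroup X ∧ Hy s E ∧ Nonempty (E ≃* F) := by
  induction hn : Nat.card G using Nat.strong_induction_on generalizing G with
  | _ n ih =>
  by_cases hs : IsSimpleGroup G
  · exact ⟨G, _, ‹_›, t, F, hs, h, ⟨.refl _⟩⟩
  have : Nontrivial G := ⟨t, 1, h.ne⟩
  obtain ⟨N, hN, h0, h1⟩ : ∃ N : Subgroup G, N.Normal ∧ N ≠ ⊥ ∧ N ≠ ⊤ := by
    by_contra! k
    exact hs ⟨fun N hN => or_iff_not_imp_left.2 (k N hN)⟩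
  have l := h.le_normal hG N h0
  have k := h.sub l (l (mem_centralizer_singleton_iff.2 rfl))
  obtain ⟨X, _, _, s, E, a, b, ⟨e⟩⟩ := ih _ (hn ▸ (card_le_card_group N).lt_of_ne
    fun e => h1 (eq_top_of_card_eq N e)) k (k.no_two fun H hH => by
      by_cases c : (H.map N.subtype).normalCore = ⊥
      · refine (h.not_sq fun f hf => mem_bot.1 (c ▸ fun g => ⟨_, sq_mem_of_index_two hH
          ⟨_, hN.conj_mem _ (l (h.dp.2.1 hf)) g⟩, ?_⟩)).elim
        simp
      · obtain ⟨x, hx, e⟩ := normalCore_le _ (h.le_normal hG _ c (mem_centralizer_singleton_iff.2 rfl))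
        exact (Subtype.ext e : x = ⟨t, _⟩) ▸ hx) rfl
  exact ⟨X, _, ‹_›, s, E, a, b, ⟨e.trans (subgroupOfEquivOfLe (h.dp.2.1.trans l))⟩⟩

theorem card : Nat.card G = 2 * Nat.card F * (centralizer ({t} : Set G)).index := by
  have := (F.subgroupOf (centralizer {t})).card_mul_index
  rw [Nat.card_congr (subgroupOfEquivOfLe h.dp.2.1).toEquiv, ← relIndex,
    h.rel le_rfl (mem_centralizer_singleton_iff.2 rfl)] at this
  rw [← (centralizer ({t} : Set G)).card_mul_index, ← this, mul_comm 2]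

theorem comm (hF : ∀ P : Subgroup F, IsPGroup 2 P → ∀ a ∈ P, ∀ b ∈ P, a * b = b * a) (P : Sylow 2 G)
    (a b : P) : a * b = b * a := by
  obtain ⟨S, h1, h2⟩ := h.exists_S
  refine (P.equiv S).injective ?_
  rw [map_mul, map_mul]
  generalize P.equiv S a = a, P.equiv S b = b
  have k : ∀ x ∈ (S : Subgroup G), x ∈ F → ∀ y ∈ (S : Subgroup G), y ∈ F → Commute x y := fun x a b y c d =>
    congrArg Subtype.val (hF _ S.isPGroup'.comap_subtype ⟨x, b⟩ a ⟨y, d⟩ c)
  have c : ∀ x ∈ (S : Subgroup G), Commute t x := fun x hx => (mem_centralizer_singleton_iff.1 (h2 hx)).symm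
  have k' : ∀ x ∈ (S : Subgroup G), x ∈ F → ∀ y ∈ (S : Subgroup G), Commute x y := fun x a b y e =>
    (h.mem (h2 e)).elim (k x a b y e) fun d => by
      simpa [← mul_assoc, h.tt] using (c x a).symm.mul_right (k x a b _ (mul_mem h1 e) d)
  refine Subtype.ext ((h.mem (h2 a.2)).elim (k' _ a.2 · _ b.2) fun d => ?_ : Commute (a : G) b)
  simpa [← mul_assoc, h.tt] using (c _ b.2).mul_left (k' _ (mul_mem h1 a.2) d _ b.2)

theorem iso : Nonempty (centralizer ({t} : Set G) ≃* Multiplicative (ZMod 2) × F) := by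
  let φ : zpowers t × F →* centralizer ({t} : Set G) := (inclusion h.dp.1).noncommCoprod (inclusion h.dp.2.1)
    fun a b => Subtype.ext (h.dp.2.2.1 a a.2 b b.2)
  have c : Nat.card (zpowers t) = 2 := by rw [Nat.card_zpowers, h.ord]
  have : Function.Bijective φ := ⟨(injective_iff_map_eq_one _).2 fun ⟨a, b⟩ e => by
    have e : (a : G) * b = 1 := congrArg Subtype.val e
    have k : (a : G) = 1 := mem_bot.1 (h.dp.2.2.2.1 ▸ mem_inf.2 ⟨a.2, eq_inv_of_mul_eq_one_left e ▸ inv_mem b.2⟩)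
    rw [k, one_mul] at e
    exact Prod.ext (Subtype.ext k) (Subtype.ext e), fun g => (h.mem g.2).elim
      (fun e => ⟨(1, ⟨g, e⟩), Subtype.ext (one_mul _)⟩) fun e => ⟨(⟨t, mem_zpowers t⟩, ⟨_, e⟩), Subtype.ext (by
        change t * (t * g) = g
        rw [← mul_assoc, h.tt, one_mul])⟩⟩
  exact ⟨(MulEquiv.ofBijective φ this).symm.trans (.prodCongr
    (mulEquivOfPrimeCardEq (p := 2) c (by simp)) (.refl _))⟩

end Hy

end H23.CZ
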