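import Cfsg.Agent.Lib.Chz.Defs
import Cfsg.Agent.Lib.Orth12.Omega
import Cfsg.Agent.Lib.Orth12.Bridge
import Cfsg.Agent.Lib.Forms.Classify
import Cfsg.Agent.Lib.KInvC.Orth

/-! Orthogonal groups of odd characteristic are good. -/

set_option autoImplicit false

namespace H23.CZ

open Cfsg Subgroup H12 QuadraticMap Module

namespace Ort

variable {F V ι : Type*} [Field F] [AddCommGroup V] [Module F V] {Q : QuadraticForm F V}

theorem refl_comm {u v : V} (h : polar Q v u = 0) : Commute (refl Q u) (refl Q v) :=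
  mul_inv_eq_iff_eq_mul.1 (by rw [refl_conj, refl_apply_of_orth h])

theorem comm_refl {g : O Q} {v : V} {c : F} (hc : c ≠ 0) (h : g.1 v = c • v) : Commute (refl Q v) g :=
  (mul_inv_eq_iff_eq_mul.1 (by rw [refl_conj, h, refl_smul hc]) : g * _ = _ * g).symm

/-- `g` is diagonal with entries `ε` -/
def Dg (b : Basis ι F V) (g : O Q) (ε : ι → F) : Prop := ∀ k, g.1 (b k) = ε k • b k

theorem Dg.mul {b : Basis ι F V} {g h : O Q} {ε δ : ι → F} (a : Dg b g ε) (c : Dg b h δ) :
    Dg b (g * h) fun k => ε k * δ k := fun k => by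
  rw [O.mul_apply, c, map_smul, a, smul_smul, mul_comm]

theorem Dg.ext {b : Basis ι F V} {g h : O Q} {ε δ : ι → F} (a : Dg b g ε) (c : Dg b h δ) (e : ∀ k, ε k = δ k) :
    g = h := Subtype.ext (b.ext' fun k => by rw [a, c, e])

theorem Dg.one (b : Basis ι F V) : Dg b (1 : O Q) fun _ => 1 := fun k => by rw [O.one_apply, one_smul]

theorem Dg.repr {b : Basis ι F V} {g : O Q} {ε : ι → F} (a : Dg b g ε) (v : V) (l : ι) :
    b.repr (g.1 v) l = ε l * b.repr v l := by
  classical
  have : (b.coord l).comp (g.1 : V →ₗ[F] V) = ε l • b.coord l := b.ext fun k => by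
    by_cases e : k = l <;> simp [a k, a l, e]
  exact LinearMap.congr_fun this v

/-- an orthogonal basis with at most one exceptional vector -/
structure OB [Fintype ι] (Q : QuadraticForm F V) (b : Basis ι F V) (c : F) (o : ι) : Prop where
  two : (2 : F) ≠ 0
  c0 : c ≠ 0
  orth : ∀ i j, i ≠ j → polar Q (b i) (b j) = 0
  val : ∀ i, i ≠ o → Q (b i) = c
  exc : Q (b o) = c ∨ ∃ α, ¬ IsSquare α ∧ Q (b o) = α * c
  card : 7 ≤ Fintype.card ι

variable [Fintype ι] [DecidableEq ι] {b : Basis ι F V} {c : F} {o : ι} (h : OB Q b c o)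
include h

theorem OB.ne (i : ι) : Q (b i) ≠ 0 := by
  by_cases e : i = o
  · rcases h.exc with e' | ⟨α, n, e'⟩
    · exact e ▸ e' ▸ h.c0
    · exact e ▸ e' ▸ mul_ne_zero (fun a => n (a ▸ IsSquare.zero)) h.c0
  · exact h.val i e ▸ h.c0

theorem OB.sgn : (-1 : F) ≠ 1 := fun e => h.two (by linear_combination -e)

theorem OB.pick (s : Finset ι) (hs : s.card ≤ 5) : ∃ k, k ∉ s ∧ Q (b k) = c := by
  obtain ⟨k, -, hk⟩ := Finset.exists_mem_notMem_of_card_lt_card (s := insert o s) (t := Finset.univ)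
    (((Finset.card_insert_le o s).trans_lt (by omega)).trans_le (h.card.trans Finset.card_univ.ge))
  exact ⟨k, fun e => hk (Finset.mem_insert_of_mem e), h.val k fun e => hk (e ▸ Finset.mem_insert_self o s)⟩

theorem OB.dr (i : ι) : Dg b (refl Q (b i)) fun k => if k = i then -1 else 1 := fun k => by
  by_cases e : k = i
  · simp [e, refl_apply_self (h.ne i)]
  · simp [refl_apply_of_orth (h.orth k i e), e]

theorem OB.dg_sq {g : O Q} {ε : ι → F} (a : Dg b g ε) (k : ι) : ε k = 1 ∨ ε k = -1 := by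
  have := O.map_Q g (b k)
  rw [a, Q_smul] at this
  exact mul_self_eq_one_iff.1 ((pow_two _).symm.trans (mul_right_cancel₀ (h.ne k) (this.trans (one_mul _).symm)))

/-- an isometry normalizing the sign changes up to sign is diagonal -/
theorem OB.diag {g : O Q} (H : ∀ i j, Q (b i) = c → Q (b j) = c → ∃ s : F, (s = 1 ∨ s = -1) ∧
    ∀ v, (refl Q (b i) * refl Q (b j)).1 (g.1 v) = s • g.1 ((refl Q (b i) * refl Q (b j)).1 v)) :
    ∃ ε, Dg b g ε := by
  choose! s hs H using H
  let δ : ι → ι → ι → F := fun i j k => (if k = i then -1 else 1) * (if k = j then -1 else 1)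
  have key : ∀ i j, Q (b i) = c → Q (b j) = c → ∀ k l, b.repr (g.1 (b k)) l ≠ 0 → δ i j l = s i j * δ i j k :=
    fun i j hi hj k l n => by
      have d := (h.dr i).mul (h.dr j)
      have e := congrArg (fun v => b.repr v l) (H i j hi hj (b k))
      simp only [d.repr, d k, map_smul, Finsupp.smul_apply, smul_eq_mul, ← mul_assoc] at e
      exact mul_right_cancel₀ n (by simpa only [δ, mul_assoc] using e)
  have sep : ∀ k l, k ≠ l → ∃ i j, Q (b i) = c ∧ Q (b j) = c ∧ δ i j k ≠ δ i j l := fun k l n => by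
    obtain ⟨j, hj, ej⟩ := h.pick {k, l} (Finset.card_le_two.trans (by norm_num))
    simp only [Finset.mem_insert, Finset.mem_singleton, not_or] at hj
    by_cases e : k = o
    · exact ⟨l, j, h.val l (e ▸ n.symm), ej, by simpa [δ, n, Ne.symm hj.1, Ne.symm hj.2] using h.sgn.symm⟩
    · exact ⟨k, j, h.val k e, ej, by simpa [δ, n.symm, Ne.symm hj.1, Ne.symm hj.2] using h.sgn⟩
  have ex : ∀ k, ∃ l, b.repr (g.1 (b k)) l ≠ 0 := fun k => by
    by_contra! n
    exact O.apply_ne_zero g (b.ne_zero k) (b.repr.map_eq_zero_iff.1 (Finsupp.ext n))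
  choose f hf using ex
  have fi : Function.Injective f := fun k l e => by_contra fun n => by
    obtain ⟨i, j, hi, hj, d⟩ := sep k l n
    have := (key i j hi hj k _ (hf k)).symm.trans (e ▸ key i j hi hj l _ (hf l))
    exact d (mul_left_cancel₀ (by rcases hs i j hi hj with a | a <;> simp [a]) this)
  have s1 : ∀ i j, Q (b i) = c → Q (b j) = c → s i j = 1 := fun i j hi hj => (hs i j hi hj).resolve_right fun e => by
    have : ((Finset.univ \ {i, j}).image f) ⊆ {i, j} := fun x hx => by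
      obtain ⟨k, hk, rfl⟩ := Finset.mem_image.1 hx
      by_contra n
      simp only [Finset.mem_sdiff, Finset.mem_insert, Finset.mem_singleton, not_or] at hk n
      exact h.sgn (by simpa [δ, e, hk.2.1, hk.2.2, n.1, n.2] using (key i j hi hj k _ (hf k)).symm)
    have a := Finset.card_le_card this
    have c2 : ({i, j} : Finset ι).card ≤ 2 := Finset.card_le_two
    have := h.card
    rw [Finset.card_image_of_injective _ fi, Finset.card_sdiff_of_subset (Finset.subset_univ _),
      Finset.card_univ] at a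
    omega
  refine ⟨fun k => b.repr (g.1 (b k)) k, fun k => b.ext_elem fun l => ?_⟩
  by_cases e : k = l
  · simp [e]
  · obtain ⟨i, j, hi, hj, d⟩ := sep k l e
    have : b.repr (g.1 (b k)) l = 0 := by_contra fun n =>
      d (by rw [key i j hi hj k l n, s1 i j hi hj, one_mul])
    simp [this, e]

variable [FiniteDimensional F V] (hQ : Nondeg Q)
include hQ

theorem OB.rr {i j : ι} (hi : Q (b i) = c) (hj : Q (b j) = c) : refl Q (b i) * refl Q (b j) ∈ Om Q :=
  refl_mul_refl_mem_Om hQ (h.ne j) one_ne_zero (by rw [hi, hj, one_pow, one_mul])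

theorem OB.sq {u : Om Q} {ε : ι → F} (a : Dg b u.1 ε) {i j : ι} (hi : Q (b i) = c) (hj : Q (b j) = c)
    (ij : i ≠ j) (e : ε i = ε j) : (⟨_, h.rr hQ hi hj⟩ : Om Q) ∈ Sq u := by
  have e0 : ∀ k, ε k ≠ 0 := fun k => by rcases h.dg_sq a k with e | e <;> simp [e]
  have q2 : ∀ i j, Q (b i) = c → Q (b j) = c → i ≠ j → Q (b i - b j) = 2 * c := fun i j hi hj ij => by
    rw [Q_sub, hi, hj, h.orth i j ij]; ring
  have main : ∀ k l m, Q (b k) = c → Q (b l) = c → Q (b m) = c → k ∉ ({i, j} : Finset ι) → l ∉ ({i, j} : Finset ι) →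
      m ∉ ({i, j} : Finset ι) → k ≠ l → k ≠ m → l ≠ m → ε l = ε m → (⟨_, h.rr hQ hi hj⟩ : Om Q) ∈ Sq u := by
    intro k l m hk hl hm nk nl nm kl km lm e'
    simp only [Finset.mem_insert, Finset.mem_singleton, not_or] at nk nl nm
    have n2 : (2 : F) * c ≠ 0 := mul_ne_zero h.two h.c0
    let x : Om Q := ⟨_, mul_mem (h.rr hQ hi hk) (refl_mul_refl_mem_Om (w := b i - b j) (v := b l - b m) hQ
      (q2 l m hl hm lm ▸ n2) one_ne_zero (by rw [q2 l m hl hm lm, q2 i j hi hj ij, one_pow, one_mul]))⟩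
    have cx : Commute x u := Subtype.ext (((comm_refl (e0 i) (a i)).mul_left (comm_refl (e0 k) (a k))).mul_left
      ((comm_refl (e0 i) (by rw [map_sub, a, a, e, smul_sub])).mul_left
        (comm_refl (e0 l) (by rw [map_sub, a, a, e', smul_sub])))).eq
    convert mul_self_mem cx using 1
    refine Subtype.ext ?_
    have c1 : Commute (refl Q (b k)) (refl Q (b i)) := refl_comm (h.orth _ _ (Ne.symm nk.1))
    have c2 : Commute (refl Q (b k)) (refl Q (b i - b j)) := refl_comm (by
      rw [polar_sub_left, h.orth _ _ (Ne.symm nk.1), h.orth _ _ (Ne.symm nk.2), sub_zero])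
    have c3 : Commute (refl Q (b k)) (refl Q (b l - b m)) := refl_comm (by
      rw [polar_sub_left, h.orth _ _ kl.symm, h.orth _ _ km.symm, sub_zero])
    have c4 : Commute (refl Q (b i)) (refl Q (b l - b m)) := refl_comm (by
      rw [polar_sub_left, h.orth _ _ nl.1, h.orth _ _ nm.1, sub_zero])
    have c5 : Commute (refl Q (b i - b j)) (refl Q (b l - b m)) := refl_comm (by
      rw [polar_sub_left, polar_sub_right, polar_sub_right, h.orth _ _ nl.1, h.orth _ _ nm.1, h.orth _ _ nl.2,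
        h.orth _ _ nm.2]; simp)
    have c6 : refl Q (b j) = refl Q (b i - b j) * refl Q (b i) * refl Q (b i - b j) := by
      rw [← refl_sub_apply (hi.trans hj.symm) (q2 i j hi hj ij ▸ n2), ← refl_conj, refl_inv]
      congr 3 <;> rw [refl_sub_apply (hi.trans hj.symm) (q2 i j hi hj ij ▸ n2)]
    change refl Q (b i) * refl Q (b j) = refl Q (b i) * refl Q (b k) * (refl Q (b i - b j) * refl Q (b l - b m)) *
      (refl Q (b i) * refl Q (b k) * (refl Q (b i - b j) * refl Q (b l - b m)))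
    have r1 := refl_mul_self (Q := Q) (b k)
    have r2 := refl_mul_self (Q := Q) (b l - b m)
    rw [c6]
    generalize refl Q (b i) = A at *
    generalize refl Q (b k) = E at *
    generalize refl Q (b i - b j) = S at *
    generalize refl Q (b l - b m) = T at *
    have e1 : A * E * (S * T) = A * S * (E * T) := by rw [mul_assoc, ← mul_assoc E, c2.eq]; simp only [mul_assoc]
    rw [e1, ((c1.mul_right c2).mul_left (c4.mul_left c5).symm).mul_mul_mul_comm,
      (c3.symm.mul_mul_mul_comm E T), r1, r2]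
    simp only [mul_assoc, mul_one]
  obtain ⟨k, nk, hk⟩ := h.pick {i, j} (Finset.card_le_two.trans (by norm_num))
  obtain ⟨l, nl, hl⟩ := h.pick (insert k {i, j}) (Finset.card_le_three.trans (by norm_num))
  obtain ⟨m, nm, hm⟩ := h.pick (insert l (insert k {i, j}))
    ((Finset.card_insert_le _ _).trans (by have := Finset.card_le_three (a := k) (b := i) (c := j); omega))
  rw [Finset.mem_insert, not_or] at nl nm
  rw [Finset.mem_insert, not_or] at nm
  by_cases e1 : ε l = ε m
  · exact main k l m hk hl hm nk nl.2 nm.2.2 (Ne.symm nl.1) (Ne.symm nm.2.1) (Ne.symm nm.1) e1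
  by_cases e2 : ε k = ε l
  · exact main m k l hm hk hl nm.2.2 nk nl.2 nm.2.1 nm.1 (Ne.symm nl.1) e2
  · refine main l k m hl hk hm nl.2 nk nm.2.2 nl.1 (Ne.symm nm.1) (Ne.symm nm.2.1) ?_
    rcases h.dg_sq a k with x | x <;> rcases h.dg_sq a l with y | y <;> rcases h.dg_sq a m with z | z <;>
      simp_all

theorem OB.mem [Fintype F] {u : Om Q} {ε : ι → F} (a : Dg b u.1 ε) : u ∈ Sq u := by
  classical
  have hG := H11.KI.good hQ h.two
  suffices H : ∀ n (v : Om Q) (η : ι → F), Dg b v.1 η → (∀ k, η k = -1 → ε k = -1) →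
      (Finset.univ.filter fun k => η k = -1).card = n → v ∈ Sq u from H _ u ε a (fun _ => id) rfl
  intro n
  induction n using Nat.strong_induction_on with | _ n ih => ?_
  intro v η d le hn
  have p1 : ∀ k, η k ≠ -1 → η k = 1 := fun k => (h.dg_sq d k).resolve_right
  by_cases ex : ∃ i j, i ≠ j ∧ Q (b i) = c ∧ Q (b j) = c ∧ η i = -1 ∧ η j = -1
  · obtain ⟨i, j, ij, hi, hj, ei, ej⟩ := ex
    have m := h.sq hQ a hi hj ij ((le i ei).trans (le j ej).symm)
    have sub : ∀ k, (if k = i then -1 else 1) * (if k = j then -1 else 1) * η k = -1 → η k = -1 ∧ k ≠ i :=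
      fun k e => by
        by_cases e1 : k = i
        · exact absurd (by simpa [e1, ij, ei] using e.symm) h.sgn
        by_cases e2 : k = j
        · exact absurd (by simpa [e2, ij.symm, ej] using e.symm) h.sgn
        · exact ⟨by simpa [e1, e2] using e, e1⟩
    refine (mul_mem_cancel_left m).1 (ih _ ?_ _ _ (((h.dr i).mul (h.dr j)).mul d) (fun k e => le k (sub k e).1) rfl)
    rw [← hn]
    refine Finset.card_lt_card ⟨fun k hk => ?_, fun s => ?_⟩
    · exact Finset.mem_filter.2 ⟨Finset.mem_univ _, (sub k (Finset.mem_filter.1 hk).2).1⟩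
    · exact (sub i (Finset.mem_filter.1 (s (Finset.mem_filter.2 ⟨Finset.mem_univ _, ei⟩))).2).2 rfl
  have hv := (mem_Om_iff hQ hG v.1).1 v.2
  have single : ∀ i, η i = -1 → ∃ j, j ≠ i ∧ η j = -1 := fun i ei => by
    by_contra! n
    have : v.1 = refl Q (b i) := d.ext (h.dr i) fun k => by
      by_cases e : k = i
      · simp [e, ei]
      · simp [e, p1 k (n k e)]
    rw [this, dk_refl hQ hG (h.ne i)] at hv
    exact absurd hv.1 (by decide)
  by_cases eo : ∃ i, η i = -1
  · exfalso
    obtain ⟨i, ei⟩ := eo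
    have eo : η o = -1 := by
      by_contra n
      obtain ⟨j, ji, ej⟩ := single i ei
      exact ex ⟨j, i, ji, h.val j fun e => n (e ▸ ej), h.val i fun e => n (e ▸ ei), ej, ei⟩
    obtain ⟨j, jo, ej⟩ := single o eo
    obtain ⟨α, nα, eα⟩ := h.exc.resolve_left fun e => ex ⟨j, o, jo, h.val j jo, e, ej, eo⟩
    have : v.1 = refl Q (b j) * refl Q (b o) := d.ext ((h.dr j).mul (h.dr o)) fun k => by
      by_cases e1 : k = j
      · simp [e1, ej, jo]
      by_cases e2 : k = o
      · simp [e2, eo, jo.symm]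
      · simp [e1, e2, p1 k fun e => ex ⟨k, j, e1, h.val k e2, h.val j jo, e, ej⟩]
    have e := congrArg (Units.val) hv.2
    rw [this, map_mul, Units.val_mul, coe_spin_refl hQ hG (h.ne j), coe_spin_refl hQ hG (h.ne o), h.val j jo, eα,
      map_mul, mul_left_comm, ← pow_two, quadraticChar_sq_one h.c0, quadraticChar_neg_one_iff_not_isSquare.2 nα] at e
    exact absurd e (by decide)
  · have : v = 1 := Subtype.ext (d.ext (Dg.one b) fun k => p1 k fun e => eo ⟨k, e⟩)
    exact this ▸ one_mem _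

theorem OB.good [Fintype F] (hn : 3 ≤ finrank F V) : CZ.Good (Om Q ⧸ center (Om Q)) := by
  let R : Subgroup (Om Q) :=
    { carrier := {g | ∃ ε, Dg b g.1 ε}
      one_mem' := ⟨_, Dg.one b⟩
      mul_mem' := fun ⟨_, x⟩ ⟨_, y⟩ => ⟨_, x.mul y⟩
      inv_mem' := fun {g} ⟨ε, x⟩ => ⟨ε, by
        have : g.1 * g.1 = 1 := (x.mul x).ext (Dg.one b) fun k => mul_self_eq_one_iff.2 (h.dg_sq x k)
        rwa [coe_inv, inv_eq_of_mul_eq_one_right this]⟩ }
  refine good_of_cov (QuotientGroup.mk' _) (QuotientGroup.mk'_surjective _) R (fun ⟨g, ε, x⟩ => ⟨1, ?_⟩)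
    fun u _ hu => ⟨u, ?_, rfl⟩
  · refine Subtype.ext (Subtype.ext ?_)
    change g.1 ^ 2 ^ 1 = 1
    rw [pow_one, pow_two]
    exact (x.mul x).ext (Dg.one b) fun k => mul_self_eq_one_iff.2 (h.dg_sq x k)
  · obtain ⟨ε, a⟩ := h.diag (g := u.1) fun i j hi hj => by
      have m := (QuotientGroup.eq_one_iff _).1 (hu ⟨_, h.rr hQ hi hj⟩ ⟨_, (h.dr i).mul (h.dr j)⟩)
      rcases H11.KI.center_O h.two hQ hn (fun w => (congrArg Subtype.val (mem_center_iff.1 m w)).symm) with e | e
      · refine ⟨1, Or.inl rfl, fun v => ?_⟩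
        simp only [coe_mul, coe_inv, mul_inv_eq_iff_eq_mul] at e
        rw [← O.mul_apply, e, one_mul, O.mul_apply, one_smul]
      · refine ⟨-1, Or.inr rfl, fun v => ?_⟩
        simp only [coe_mul, coe_inv, mul_inv_eq_iff_eq_mul] at e
        rw [← O.mul_apply, e, O.mul_apply, O.mul_apply (negO Q), negO_apply, neg_one_smul]
    exact h.mem hQ a

end Ort

theorem good_Om {F V : Type*} [Field F] [Fintype F] [AddCommGroup V] [Module F V] [FiniteDimensional F V]
    {Q : QuadraticForm F V} (h2 : (2 : F) ≠ 0) (hQ : H12.Nondeg Q) (hn : 7 ≤ Module.finrank F V) :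
    Good (H12.Om Q ⧸ center (H12.Om Q)) := by
  obtain ⟨n, en⟩ : ∃ n, finrank F V = n + 1 := ⟨finrank F V - 1, by omega⟩
  obtain ⟨α, hα⟩ := FiniteField.exists_nonsquare (F := F) fun e => h2 (by simpa [e] using ringChar.Nat.cast_ringChar (R := F))
  obtain ⟨b, o, v, e⟩ := H28.exists_basis_one_or_nonsquare h2 (polarBilin Q) (fun x y => polar_comm _ x y)
    (nondeg_iff.1 hQ).1 en α hα
  have k : ∀ (x : V) (a : F), polarBilin Q x x = a → Q x = a * 2⁻¹ := fun x a e => by
    rw [← e, polarBilin_apply_apply, B_self]; field_simp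
  exact Ort.OB.good (b := b) (c := 2⁻¹) (o := Fin.last n) ⟨h2, inv_ne_zero h2, o, fun i hi => by
    rw [k _ _ (v i hi), one_mul], e.imp (fun e => by rw [k _ _ e, one_mul]) fun e => ⟨α, hα, k _ _ e⟩,
    by simp; omega⟩ hQ (by omega)

end H23.CZ
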